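import Mathlib
import Cfsg.Agent.Cit.CorTwo
import Cfsg.Prelude.Def_Local
import Cfsg.Agent.Schreier.Balance
import Cfsg.Agent.Omega.Lie.CompB
import Cfsg.Agent.Schreier.ClassPSp
import Cfsg.Agent.OddHalf.Table.Iface17
import Cfsg.Agent.Cit.LemmaB
import Cfsg.Agent.OddHalf.Soft
import Cfsg.Agent.OddHalf.Stmts_m3
import Cfsg.Agent.Cit.ParabSL2
import Cfsg.Agent.Lib.PSL2Inv
import Cfsg.Agent.OddHalf.NI.Ex.Defs
import Cfsg.Agent.SignalizersComponents.SLQuasisimple
import Cfsg.Agent.SignalizersComponents.QuasisimpleQuotient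
import Cfsg.Agent.Omega.KFactsZS_m3
import Cfsg.Agent.SporadicB.J1.Main
import Cfsg.Agent.OddHalf.NI.CovTwo
import Cfsg.Agent.FastGrp
import Cfsg.Agent.Prune
set_option linter.all false

section
prune_inst 0x7fb0fefb8ff80ddfffff7e7ffefddffff8fcffffffdffbfbfffcf3ffafdf2b0ebbe5fb8dffe858ff1ef662b630b87813f9ffeeffef6bdc7ffffd5ff45ffbee1fe5ffbdad51d7a83e1ffe6ffffbf17fce7f3fffffffffffffffffffffffffffbeffffffffffff

-- part: KFacts/RgdFld/Two
section
set_option linter.all false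
open scoped Cfsg.Agent.FastGrp

set_option autoImplicit false

namespace Cfsg.Agent.KFacts.RgdFld.Two

/-- a cyclic group has at most one involution -/
theorem inv_unique {B : Type*} [Group B] [Finite B] [IsCyclic B] {b b' : B} (hb : b ≠ 1) (hbb : b * b = 1)
    (hb' : b' ≠ 1) (hbb' : b' * b' = 1) : b = b' := by
  classical
  have := Fintype.ofFinite B
  by_contra hne
  have h1 := IsCyclic.card_pow_eq_one_le (α := B) (n := 2) (by norm_num)
  have h2 : ({1, b, b'} : Finset B) ⊆ Finset.univ.filter (fun a => a ^ 2 = 1) := by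
    intro a ha
    rw [Finset.mem_insert, Finset.mem_insert, Finset.mem_singleton] at ha
    rw [Finset.mem_filter]
    refine ⟨Finset.mem_univ _, ?_⟩
    rcases ha with rfl | rfl | rfl
    · exact one_pow 2
    · rw [pow_two, hbb]
    · rw [pow_two, hbb']
  have h3 := Finset.card_le_card h2
  have h4 : ({1, b, b'} : Finset B).card = 3 := by
    rw [Finset.card_insert_of_notMem, Finset.card_insert_of_notMem, Finset.card_singleton]
    · rwa [Finset.mem_singleton]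
    · rw [Finset.mem_insert, Finset.mem_singleton, not_or]
      exact ⟨Ne.symm hb, Ne.symm hb'⟩
  omega

/-- the projection of a finite cyclic group to its `2`-part -/
theorem exists_proj (D : Type*) [Group D] [Finite D] [IsCyclic D] :
    ∃ (B : Type) (_ : CommGroup B) (π : D →* B), (∀ d, ∃ k : ℕ, π d ^ 2 ^ k = 1) ∧
      (∀ b b' : B, b ≠ 1 → b * b = 1 → b' ≠ 1 → b' * b' = 1 → b = b') ∧
      ∀ d, ∀ k : ℕ, d ^ 2 ^ k = 1 → π d = 1 → d = 1 := by
  obtain ⟨a, m, hm, hN⟩ := Nat.exists_eq_two_pow_mul_odd (n := Nat.card D) Nat.card_pos.ne'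
  have : NeZero (Nat.card D) := ⟨Nat.card_pos.ne'⟩
  obtain ⟨e⟩ : Nonempty (D ≃* Multiplicative (ZMod (Nat.card D))) := ⟨(zmodCyclicMulEquiv ‹IsCyclic D›).symm⟩
  have hcyc : IsCyclic (Multiplicative (ZMod (Nat.card D))) := inferInstance
  have hfin : Finite (Multiplicative (ZMod (Nat.card D))) := inferInstance
  have hcard : Nat.card (Multiplicative (ZMod (Nat.card D))) = Nat.card D := Nat.card_congr e.symm.toEquiv
  refine ⟨Multiplicative (ZMod (Nat.card D)), inferInstance, (powMonoidHom m).comp e.toMonoidHom, ?_, ?_, ?_⟩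
  · intro d
    refine ⟨a, ?_⟩
    show (e d ^ m) ^ 2 ^ a = 1
    rw [← pow_mul, mul_comm, ← hN, ← map_pow, pow_card_eq_one', map_one]
  · intro b b' hb hbb hb' hbb'
    exact inv_unique hb hbb hb' hbb'
  · intro d k hk h1
    have h2 : e d ^ m = 1 := h1
    rw [← map_pow] at h2
    have h3 : d ^ m = 1 := e.injective (by rw [h2, map_one])
    have h4 : orderOf d ∣ 2 ^ k := orderOf_dvd_of_pow_eq_one hk
    have h5 : orderOf d ∣ m := orderOf_dvd_of_pow_eq_one h3
    have h6 : Nat.Coprime (2 ^ k) m := Nat.Coprime.pow_left k (Nat.coprime_two_left.2 hm)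
    have h7 := Nat.eq_one_of_dvd_coprimes h6 h4 h5
    exact orderOf_eq_one_iff.1 h7

end Cfsg.Agent.KFacts.RgdFld.Two
end

-- part: Cit/TheoremV
section
prune_inst 0x4e00006000b2200000000001000000010000000000000000030800502000610408002200048200e00180088100004006000000000401000000000000040000120002002020140000000000000a003180c00000000000000000000000000041000000000000
set_option linter.all false
open scoped Cfsg.Agent.FastGrp

/-!
# Theorem V (helper545, bb #5042), (6b)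

`VChoice Om U`: a `G`-equivariant choice `K ↦ U K = V_K O(K)`, `V_K ≤ K` cyclic of order `4`, for the members `K` of `Om`.
`VChoice.commute` : the elements of order `4` of the `U K` which lie in a common `2`-subgroup commute.

The proof is a shortened version of helper545's proof: case (A) and the assumption `|Q| = 8` of case (B) are not needed.
-/

set_option autoImplicit false
set_option linter.style.haveILetI false
set_option linter.unusedSectionVars false

namespace Cfsg.Agent.Cit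

open Subgroup Cfsg

variable {G : Type*} [Group G]

/-- an equivariant choice of `V_K O(K)` -/
structure VChoice (Om : Set (Subgroup G)) (U : Subgroup G → Subgroup G) : Prop where
  le : ∀ K ∈ Om, U K ≤ K
  cj : ∀ K ∈ Om, ∀ g, U (Cit.cj g K) = Cit.cj g (U K)
  oo : ∀ K ∈ Om, OO K ≤ U K
  card : ∀ K ∈ Om, Nat.card (U K) = 4 * Nat.card (OO K)
  ex : ∀ K ∈ Om, ∃ v ∈ U K, orderOf v = 4

theorem orderOf_conj_four {v : G} (hv4 : orderOf v = 4) (g : G) : orderOf (g * v * g⁻¹) = 4 := by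
  rw [← hv4]
  exact MulEquiv.orderOf_eq (MulAut.conj g) v

/-- generators of a cyclic group of order `4` -/
theorem eq_or_eq_inv_of_four {v w : G} (hv : orderOf v = 4) (hw : orderOf w = 4) (h : w ∈ zpowers v) :
    w = v ∨ w = v⁻¹ := by
  have hv4 : v ^ 4 = 1 := by rw [← hv]; exact pow_orderOf_eq_one v
  rw [mem_zpowers_iff] at h
  obtain ⟨k, rfl⟩ := h
  have h1 : v ^ k = v ^ (k % 4) := by
    have := zpow_mod_orderOf v k
    rw [hv] at this
    exact this.symm
  rw [h1] at hw ⊢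
  have h2 : 0 ≤ k % 4 := Int.emod_nonneg k (by norm_num)
  have h3 : k % 4 < 4 := Int.emod_lt_of_pos k (by norm_num)
  interval_cases h4 : k % 4
  · simp at hw
  · left; simp
  · exfalso
    have h5 : (v ^ (2 : ℤ)) ^ 2 = 1 := by
      rw [← zpow_natCast, ← zpow_mul]
      norm_num
      exact hv4
    have h6 := orderOf_dvd_of_pow_eq_one h5
    rw [hw] at h6
    omega
  · right
    rw [eq_inv_iff_mul_eq_one]
    have : v ^ (3 : ℤ) * v = v ^ 4 := by
      rw [show (3 : ℤ) = ((3 : ℕ) : ℤ) by norm_num, zpow_natCast, ← pow_succ]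
    rw [this, hv4]

namespace VChoice

variable [Finite G] {Om : Set (Subgroup G)} {U : Subgroup G → Subgroup G}

theorem conj_mem (hU : VChoice Om U) {K : Subgroup G} (hK : K ∈ Om) {v : G} (hv : v ∈ U K) (g : G) :
    g * v * g⁻¹ ∈ U (Cit.cj g K) := by
  rw [hU.cj K hK]
  exact conj_mem_cj hv

/-- the Sylow 2-subgroups of `U K` are the `⟨v⟩` -/
theorem syl_zpowers (hU : VChoice Om U) {K : Subgroup G} (hK : K ∈ Om) {v : G} (hv : v ∈ U K)
    (hv4 : orderOf v = 4) : Syl (zpowers v) (U K) := by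
  refine ⟨zpowers_le.2 hv, ?_, ?_⟩
  · apply IsPGroup.of_card (n := 2)
    rw [Nat.card_zpowers, hv4]
    norm_num
  · intro h2
    have h1 : Nat.card (zpowers v) * (zpowers v).relIndex (U K) = Nat.card (U K) := by
      have := relIndex_mul_relIndex (⊥ : Subgroup G) (zpowers v) (U K) bot_le (zpowers_le.2 hv)
      rwa [relIndex_bot_left, relIndex_bot_left] at this
    rw [Nat.card_zpowers, hv4, hU.card K hK] at h1
    have h3 : (zpowers v).relIndex (U K) = Nat.card (OO K) := Nat.eq_of_mul_eq_mul_left (by norm_num) h1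
    rw [h3] at h2
    exact odd_OO K h2

/-- (*) two elements of order `4` of `U K` in a common 2-group are equal up to inversion -/
theorem eq_or (hU : VChoice Om U) {K : Subgroup G} (hK : K ∈ Om) {v w : G} (hv : v ∈ U K)
    (hv4 : orderOf v = 4) (hw : w ∈ U K) (hw4 : orderOf w = 4) {S : Subgroup G} (hS : IsPGroup 2 S)
    (hvS : v ∈ S) (hwS : w ∈ S) : w = v ∨ w = v⁻¹ := by
  have h1 : zpowers v = U K ⊓ S :=
    (hU.syl_zpowers hK hv hv4).eq_of_le (le_inf (zpowers_le.2 hv) (zpowers_le.2 hvS)) inf_le_left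
      (hS.to_le inf_le_right)
  apply eq_or_eq_inv_of_four hv4 hw4
  rw [h1]
  exact ⟨hw, hwS⟩

theorem le_normalizer (hU : VChoice Om U) {K : Subgroup G} (hK : K ∈ Om) :
    normalizer (K : Set G) ≤ normalizer (U K : Set G) := by
  intro g hg
  rw [mem_normalizer_iff_cj, ← hU.cj K hK, mem_normalizer_iff_cj.mp hg]

/-- representatives in a given 2-group -/
theorem exists_mem (hU : VChoice Om U) {K : Subgroup G} {S : Subgroup G} (hS : IsPGroup 2 S)
    (hK : K ∈ OmS Om S) {v : G} (hv : v ∈ U K) (hv4 : orderOf v = 4) :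
    ∃ a ∈ U K, a ∈ S ∧ orderOf a = 4 ∧ v⁻¹ * a ∈ OO K := by
  haveI : Fact (Nat.Prime 2) := ⟨Nat.prime_two⟩
  have hn : K ≤ normalizer (U K : Set G) := Subgroup.le_normalizer.trans (hU.le_normalizer hK.1)
  have h1 : Syl (U K ⊓ S) (U K) := by
    refine ⟨inf_le_left, hS.to_le inf_le_right, ?_⟩
    rw [inf_comm, inf_relIndex_right]
    intro h2
    apply hK.2
    haveI : ((U K).subgroupOf K).Normal := (normal_subgroupOf_iff_le_normalizer (hU.le K hK.1)).2 hn
    have h3 := SignalizersComponents.PCompCore.relIndex_dvd_index_of_normal_right (S.subgroupOf K)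
      ((U K).subgroupOf K)
    rw [relIndex_subgroupOf (hU.le K hK.1)] at h3
    exact h2.trans h3
  obtain ⟨k, hk, hkS⟩ := (hU.syl_zpowers hK.1 hv hv4).exists_conj h1
  have h2 : k * v * k⁻¹ ∈ U K ⊓ S := by
    rw [← hkS]
    exact conj_mem_cj (mem_zpowers v)
  refine ⟨k * v * k⁻¹, h2.1, h2.2, orderOf_conj_four hv4 k, ?_⟩
  -- `U K / O(K)` is abelian of order 4
  have hOn : U K ≤ normalizer (OO K : Set G) := (hU.le K hK.1).trans (le_normalizer_OO K)
  haveI hN : ((OO K).subgroupOf (U K)).Normal := (normal_subgroupOf_iff_le_normalizer (hU.oo K hK.1)).2 hOn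
  have hc4 : Nat.card (U K ⧸ (OO K).subgroupOf (U K)) = 2 ^ 2 := by
    have h3 := card_mul_index ((OO K).subgroupOf (U K))
    rw [Nat.card_congr (subgroupOfEquivOfLe (hU.oo K hK.1)).toEquiv, hU.card K hK.1, mul_comm 4] at h3
    exact Nat.eq_of_mul_eq_mul_left Nat.card_pos h3
  have hcomm : ∀ a b : U K ⧸ (OO K).subgroupOf (U K), a * b = b * a :=
    (IsPGroup.isMulCommutative_of_card_eq_prime_sq hc4).is_comm.comm
  have h4 : ((⟨v, hv⟩⁻¹ * (⟨k, hk⟩ * ⟨v, hv⟩ * ⟨k, hk⟩⁻¹) : U K) : U K ⧸ (OO K).subgroupOf (U K)) = 1 := by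
    rw [QuotientGroup.mk_mul, QuotientGroup.mk_mul, QuotientGroup.mk_mul, QuotientGroup.mk_inv,
      QuotientGroup.mk_inv, hcomm (QuotientGroup.mk ⟨k, hk⟩), mul_inv_cancel_right, inv_mul_cancel]
  rw [QuotientGroup.eq_one_iff] at h4
  exact h4

/-- an element of order `4` of `U K` squares to `zz K` -/
theorem sq_eq (hU : VChoice Om U) (h : Hyp Om) {K : Subgroup G} (hK : K ∈ Om) {v : G} (hv : v ∈ U K)
    (hv4 : orderOf v = 4) : v * v = zz K := h.sq_eq_zz hK (hU.le K hK hv) hv4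

/-- the first half of the final step: if `w² ` moves `K`, the involution of `K` is a product of two elements of order `4`
belonging to two members with involution `e` -/
theorem split (hU : VChoice Om U) (h : Hyp Om) {K : Subgroup G} (hK : K ∈ Om) {v w e : G} (hv : v ∈ U K)
    (hv4 : orderOf v = 4) {P : Subgroup G} (hP : IsPGroup 2 P) (hvP : v ∈ P) (hwP : w ∈ P)
    (h1 : w * w * v * (w * w)⁻¹ = e * v) (h2 : w * (v * v) * w⁻¹ = e * (v * v)) (h3 : e * v = v * e)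
    (htt : (w * w) * (v * v) = (v * v) * (w * w)) (hmove : Cit.cj (w * w) K ≠ K) :
    ∃ L₁ ∈ Om, ∃ L₂ ∈ Om, L₁ ≠ L₂ ∧ zz L₁ = e ∧ zz L₂ = e ∧ ∃ u₁ ∈ U L₁, ∃ u₂ ∈ U L₂,
      orderOf u₁ = 4 ∧ orderOf u₂ = 4 ∧ v * v = u₁ * u₂ := by
  have hz : v * v = zz K := hU.sq_eq h hK hv hv4
  have hvK := hU.le K hK hv
  have hvC : v ∈ centralizer {zz K} := h.le_centralizer hK hvK
  have htC : w * w ∈ centralizer {zz K} := by
    rw [mem_centralizer_singleton_iff, ← hz]
    exact htt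
  obtain ⟨T, hT, hPT⟩ := exists_syl_ge (P := P ⊓ centralizer {zz K}) (hP.to_le inf_le_left) inf_le_right
  have hvT : v ∈ T := hPT ⟨hvP, hvC⟩
  have htT : w * w ∈ T := hPT ⟨P.mul_mem hwP hwP, htC⟩
  have hKT : K ∈ OmS Om T := h.mem_OmS_of_syl hK hT
  obtain ⟨a, b, n, hc⟩ := h.exists_gq hK (syl_inf hT.2.1 hKT)
  obtain ⟨y, hy, hy4, hinv⟩ := hc.exists_inverting ⟨hvK, hvT⟩ hv4
  have htv : w * w * v * (w * w)⁻¹ ∈ T := T.mul_mem (T.mul_mem htT hvT) (T.inv_mem htT)
  have hzt : zz (Cit.cj (w * w) K) = zz K := by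
    rw [h.zz_cj hK, ← hz, htt, mul_inv_cancel_right]
  have c1 : y * (w * w * v * (w * w)⁻¹) = (w * w * v * (w * w)⁻¹) * y :=
    h.comm_of_zz_eq hT.2.1 hK (h.conj K hK _) hzt.symm (fun hh => hmove hh.symm) hy.1 hy.2
      (conj_mem_cj hvK) htv
  have hyz : y * (v * v) * y⁻¹ = v * v := by
    rw [hz, h.comm_zz hK (Subgroup.le_normalizer hy.1), mul_inv_cancel_right]
  have hz1 : w * (v * v) * w⁻¹ = v * (w * w * v * (w * w)⁻¹) := by
    rw [h2, h1, ← mul_assoc, ← mul_assoc, h3]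
  have hye : y * (w * (v * v) * w⁻¹) * y⁻¹ = e := by
    rw [hz1]
    calc y * (v * (w * w * v * (w * w)⁻¹)) * y⁻¹ = (y * v * y⁻¹) * (y * (w * w * v * (w * w)⁻¹)) * y⁻¹ := by group
      _ = v⁻¹ * ((w * w * v * (w * w)⁻¹) * y) * y⁻¹ := by rw [hinv, c1]
      _ = v⁻¹ * (e * v) := by rw [h1]; group
      _ = e := by rw [h3, inv_mul_cancel_left]
  refine ⟨Cit.cj (y * w) K, h.conj K hK _, Cit.cj (y * w * (w * w)) K, h.conj K hK _, ?_, ?_, ?_,
    y * w * v * (y * w)⁻¹, hU.conj_mem hK hv _, y * w * (w * w) * v * (y * w * (w * w))⁻¹, hU.conj_mem hK hv _,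
    orderOf_conj_four hv4 _, orderOf_conj_four hv4 _, ?_⟩
  · intro hh
    rw [cj_mul (y * w) (w * w), cj_inj] at hh
    exact hmove hh.symm
  · rw [h.zz_cj hK, ← hz, ← hye]
    group
  · rw [h.zz_cj hK, ← hz, ← hye]
    calc y * w * (w * w) * (v * v) * (y * w * (w * w))⁻¹ = y * w * ((w * w) * (v * v)) * (w * w)⁻¹ * (y * w)⁻¹ := by group
      _ = y * w * ((v * v) * (w * w)) * (w * w)⁻¹ * (y * w)⁻¹ := by rw [htt]
      _ = _ := by group
  · have h5 : y * w * (w * (v * v) * w⁻¹) * (y * w)⁻¹ = v * v := by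
      calc y * w * (w * (v * v) * w⁻¹) * (y * w)⁻¹ = y * ((w * w) * (v * v)) * (w * w)⁻¹ * y⁻¹ := by group
        _ = y * ((v * v) * (w * w)) * (w * w)⁻¹ * y⁻¹ := by rw [htt]
        _ = y * (v * v) * y⁻¹ := by group
        _ = v * v := hyz
    rw [← h5, hz1]
    group

/-- a product `a b` of 2-power order with `a` and `b` of odd order, `a` in a subgroup `A` of odd order normalised by `b`,
is trivial -/
theorem _root_.Cfsg.Agent.Cit.eq_one_of_mul_odd {A B : Subgroup G} (hA : ¬ 2 ∣ Nat.card A) (hB : ¬ 2 ∣ Nat.card B)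
    {a b : G} (ha : a ∈ A) (hb : b ∈ B) (hbA : b ∈ normalizer (A : Set G)) {T : Subgroup G}
    (hT : IsPGroup 2 T) (hab : a * b ∈ T) : a * b = 1 := by
  have key : ∀ k : ℕ, ∃ x ∈ A, (a * b) ^ k = x * b ^ k := by
    intro k
    induction k with
    | zero => exact ⟨1, A.one_mem, by simp⟩
    | succ k ih =>
      obtain ⟨x, hx, hk⟩ := ih
      refine ⟨x * (b ^ k * a * (b ^ k)⁻¹), A.mul_mem hx ?_, ?_⟩
      · exact (mem_normalizer_iff.mp (pow_mem hbA k) a).mp ha
      · rw [pow_succ, hk, pow_succ]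
        group
  obtain ⟨x, hx, hk⟩ := key (Nat.card B)
  have hb1 : b ^ Nat.card B = 1 := by
    have := pow_card_eq_one' (G := B) (x := ⟨b, hb⟩)
    exact congrArg Subtype.val this
  rw [hb1, mul_one] at hk
  have h1 : (a * b) ^ Nat.card B = 1 :=
    eq_one_of_mem_odd hT hA (T.pow_mem hab _) (by rw [hk]; exact hx)
  obtain ⟨m, hm⟩ := hT ⟨a * b, hab⟩
  have hm' : (a * b) ^ 2 ^ m = 1 := congrArg Subtype.val hm
  have h5 : Nat.Coprime (2 ^ m) (Nat.card B) :=
    Nat.Coprime.pow_left m ((Nat.Prime.coprime_iff_not_dvd Nat.prime_two).2 hB)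
  exact orderOf_eq_one_iff.mp (Nat.eq_one_of_dvd_coprimes h5 (orderOf_dvd_of_pow_eq_one hm')
    (orderOf_dvd_of_pow_eq_one h1))

/-- members with the same involution normalise each other -/
theorem _root_.Cfsg.Agent.Cit.Hyp.le_normalizer_of_zz_eq (h : Hyp Om) {K L : Subgroup G} (hK : K ∈ Om) (hL : L ∈ Om)
    (hz : zz K = zz L) : L ≤ normalizer (K : Set G) := by
  rcases h.h2 K hK L hL hz with h1 | h1
  · rw [h1]; exact Subgroup.le_normalizer
  · have h2 : ⁅K, L⁆ ≤ K := h1.trans (inf_le_left.trans (OO_le K))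
    intro y hy
    rw [mem_normalizer_iff]
    have key : ∀ y ∈ L, ∀ x ∈ K, y * x * y⁻¹ ∈ K := by
      intro y hy x hx
      have h3 : x⁻¹ * y * x⁻¹⁻¹ * y⁻¹ ∈ K := h2 (commutator_mem_commutator (K.inv_mem hx) hy)
      have h4 := K.mul_mem hx h3
      have h5 : x * (x⁻¹ * y * x⁻¹⁻¹ * y⁻¹) = y * x * y⁻¹ := by group
      rwa [h5] at h4
    intro x
    constructor
    · exact key y hy x
    · intro hx
      have h3 := key y⁻¹ (L.inv_mem hy) _ hx
      have h5 : y⁻¹ * (y * x * y⁻¹) * y⁻¹⁻¹ = x := by group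
      rwa [h5] at h3

/-- the factors of `split` may be taken in a given 2-group -/
theorem split_mem (hU : VChoice Om U) (h : Hyp Om) {L₁ L₂ : Subgroup G} (hz : zz L₁ = zz L₂)
    {T : Subgroup G} (hT : IsPGroup 2 T) (h1 : L₁ ∈ OmS Om T) (h2 : L₂ ∈ OmS Om T) {u₁ u₂ : G} (hu₁ : u₁ ∈ U L₁)
    (hu₂ : u₂ ∈ U L₂) (h14 : orderOf u₁ = 4) (h24 : orderOf u₂ = 4) (hT12 : u₁ * u₂ ∈ T) :
    ∃ a₁ ∈ U L₁, ∃ a₂ ∈ U L₂, a₁ ∈ T ∧ a₂ ∈ T ∧ orderOf a₁ = 4 ∧ orderOf a₂ = 4 ∧ u₁ * u₂ = a₁ * a₂ := by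
  obtain ⟨a₁, ha₁, ha₁T, ha₁4, ho₁⟩ := hU.exists_mem hT h1 hu₁ h14
  obtain ⟨a₂, ha₂, ha₂T, ha₂4, ho₂⟩ := hU.exists_mem hT h2 hu₂ h24
  refine ⟨a₁, ha₁, a₂, ha₂, ha₁T, ha₂T, ha₁4, ha₂4, ?_⟩
  have hn : L₂ ≤ normalizer (OO L₁ : Set G) := by
    intro y hy
    have h3 := h.le_normalizer_of_zz_eq h1.1 h2.1 hz hy
    rw [mem_normalizer_iff_cj] at h3 ⊢
    rw [← OO_cj, h3]
  have h4 : (u₂⁻¹ * (u₁⁻¹ * a₁) * u₂⁻¹⁻¹) * (u₂⁻¹ * a₂) = 1 := by
    refine eq_one_of_mul_odd (odd_OO L₁) (odd_OO L₂) ?_ ho₂ (hn (OO_le L₂ ho₂)) hT ?_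
    · exact (mem_normalizer_iff.mp (inv_mem (hn (hU.le _ h2.1 hu₂))) _).mp ho₁
    · have h5 : (u₂⁻¹ * (u₁⁻¹ * a₁) * u₂⁻¹⁻¹) * (u₂⁻¹ * a₂) = (u₁ * u₂)⁻¹ * (a₁ * a₂) := by group
      rw [h5]
      exact T.mul_mem (T.inv_mem hT12) (T.mul_mem ha₁T ha₂T)
  have h5 : (u₂⁻¹ * (u₁⁻¹ * a₁) * u₂⁻¹⁻¹) * (u₂⁻¹ * a₂) = (u₁ * u₂)⁻¹ * (a₁ * a₂) := by group
  rw [h5, inv_mul_eq_one] at h4
  exact h4

/-- elements of order `4` of `U L`, `U M` with the same involution commute inside a 2-group -/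
theorem comm_of_zz_eq (hU : VChoice Om U) (h : Hyp Om) {L M : Subgroup G} (hL : L ∈ Om) (hM : M ∈ Om)
    (hz : zz L = zz M) {T : Subgroup G} (hT : IsPGroup 2 T) {a b : G} (ha : a ∈ U L) (haT : a ∈ T)
    (ha4 : orderOf a = 4) (hb : b ∈ U M) (hbT : b ∈ T) (hb4 : orderOf b = 4) : a * b = b * a := by
  by_cases hLM : L = M
  · subst hLM
    rcases hU.eq_or hL ha ha4 hb hb4 hT haT hbT with rfl | rfl
    · rfl
    · simp
  · exact h.comm_of_zz_eq hT hL hM hz hLM (hU.le L hL ha) haT (hU.le M hM hb) hbT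

theorem commute_aux (hU : VChoice Om U) (h : Hyp Om) : ∀ (n : ℕ) (P : Subgroup G), Nat.card P = n → IsPGroup 2 P →
    ∀ K ∈ Om, ∀ L ∈ Om, ∀ v ∈ U K, ∀ w ∈ U L, orderOf v = 4 → orderOf w = 4 → v ∈ P → w ∈ P →
      v * w = w * v := by
  intro n
  induction n using Nat.strong_induction_on with
  | _ n ih =>
    intro P hn hP K hK L hL v hv w hw hv4 hw4 hvP hwP
    by_contra hvw
    -- conjugates under `P` commute
    have conjc : ∀ (K : Subgroup G), K ∈ Om → ∀ v ∈ U K, orderOf v = 4 → v ∈ P → zpowers v ≠ P → ∀ x ∈ P,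
        v * (x * v * x⁻¹) = (x * v * x⁻¹) * v := by
      intro K hK v hv hv4 hvP hne x hx
      obtain ⟨M, hvM, hMP, hMne, hPM⟩ := exists_lt_normal hP (zpowers_le.2 hvP) hne
      have hcard : Nat.card M < n := by
        rw [← hn]
        refine lt_of_le_of_ne (Nat.le_of_dvd Nat.card_pos (card_dvd_of_le hMP)) ?_
        intro hh
        exact hMne (eq_of_le_of_card_ge hMP hh.ge)
      have hvM' : v ∈ M := hvM (mem_zpowers v)
      exact ih _ hcard M rfl (hP.to_le hMP) K hK _ (h.conj K hK x) v hv _ (hU.conj_mem hK hv x) hv4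
        (orderOf_conj_four hv4 x) hvM' ((mem_normalizer_iff.mp (hPM hx) v).mp hvM')
    have hzv : zpowers v ≠ P := by
      intro hh
      rw [← hh] at hwP
      obtain ⟨k, rfl⟩ := hwP
      exact hvw (Commute.zpow_right (Commute.refl v) k).eq
    have hzw : zpowers w ≠ P := by
      intro hh
      rw [← hh] at hvP
      obtain ⟨k, rfl⟩ := hvP
      exact hvw (Commute.zpow_left (Commute.refl w) k).eq
    have hv1 : Commute v (w * v * w⁻¹) := conjc K hK v hv hv4 hvP hzv w hwP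
    have hw1 : Commute w (v * w * v⁻¹) := conjc L hL w hw hw4 hwP hzw v hvP
    obtain ⟨c, hc⟩ : ∃ c, c = v * w * v⁻¹ * w⁻¹ := ⟨_, rfl⟩
    have hcv : Commute c v := by
      have h1 : c = v * (w * v * w⁻¹)⁻¹ := by rw [hc]; group
      rw [h1]
      exact ((Commute.refl v).mul_right hv1.inv_right).symm
    have hcw : Commute c w := by
      rw [hc]
      exact (hw1.mul_right (Commute.refl w).inv_right).symm
    have wvw : w * v * w⁻¹ = c⁻¹ * v := by rw [hc]; group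
    have vwv : v * w * v⁻¹ = c * w := by rw [hc]; group
    obtain ⟨e, he⟩ : ∃ e, e = c * c := ⟨_, rfl⟩
    have hev : Commute e v := by rw [he]; exact hcv.mul_left hcv
    have hew : Commute e w := by rw [he]; exact hcw.mul_left hcw
    have hv44 : v ^ 4 = 1 := by rw [← hv4]; exact pow_orderOf_eq_one v
    have hw44 : w ^ 4 = 1 := by rw [← hw4]; exact pow_orderOf_eq_one w
    have hc4 : c ^ 4 = 1 := by
      have h1 : (w * v * w⁻¹) ^ 4 = 1 := by
        rw [← MulAut.conj_apply, ← map_pow, hv44, map_one]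
      rw [wvw, (hcv.inv_left).mul_pow, hv44, mul_one, inv_pow, inv_eq_one] at h1
      exact h1
    have hee : e * e = 1 := by
      rw [he]
      calc c * c * (c * c) = (c ^ 2) ^ 2 := by rw [pow_two, pow_two]
        _ = c ^ 4 := by rw [← pow_mul]
        _ = 1 := hc4
    have hei : c⁻¹ * c⁻¹ = e := by
      rw [he, ← mul_inv_rev]
      rw [inv_eq_iff_mul_eq_one]
      rw [← he]
      exact hee
    have k1 : w * w * v * (w * w)⁻¹ = e * v := by
      calc w * w * v * (w * w)⁻¹ = w * (w * v * w⁻¹) * w⁻¹ := by group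
        _ = w * (c⁻¹ * v) * w⁻¹ := by rw [wvw]
        _ = (w * c⁻¹ * w⁻¹) * (w * v * w⁻¹) := by group
        _ = c⁻¹ * (c⁻¹ * v) := by rw [(hcw.inv_left).symm.eq, mul_inv_cancel_right, wvw]
        _ = e * v := by rw [← mul_assoc, hei]
    have k2 : w * (v * v) * w⁻¹ = e * (v * v) := by
      calc w * (v * v) * w⁻¹ = (w * v * w⁻¹) * (w * v * w⁻¹) := by group
        _ = c⁻¹ * (v * c⁻¹) * v := by rw [wvw]; group
        _ = c⁻¹ * (c⁻¹ * v) * v := by rw [(hcv.inv_left).eq]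
        _ = e * (v * v) := by rw [← hei]; group
    have k1' : v * v * w * (v * v)⁻¹ = e * w := by
      calc v * v * w * (v * v)⁻¹ = v * (v * w * v⁻¹) * v⁻¹ := by group
        _ = v * (c * w) * v⁻¹ := by rw [vwv]
        _ = (v * c * v⁻¹) * (v * w * v⁻¹) := by group
        _ = c * (c * w) := by rw [hcv.symm.eq, mul_inv_cancel_right, vwv]
        _ = e * w := by rw [← mul_assoc, ← he]
    have k2' : v * (w * w) * v⁻¹ = e * (w * w) := by
      calc v * (w * w) * v⁻¹ = (v * w * v⁻¹) * (v * w * v⁻¹) := by group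
        _ = c * (w * c) * w := by rw [vwv]; group
        _ = c * (c * w) * w := by rw [hcw.eq]
        _ = e * (w * w) := by rw [he]; group
    have htt : (w * w) * (v * v) = (v * v) * (w * w) := by
      have h1 : (w * w) * (v * v) * (w * w)⁻¹ = v * v := by
        calc (w * w) * (v * v) * (w * w)⁻¹ = (w * w * v * (w * w)⁻¹) * (w * w * v * (w * w)⁻¹) := by group
          _ = e * (v * e) * v := by rw [k1]; group
          _ = e * (e * v) * v := by rw [hev.eq]
          _ = (e * e) * (v * v) := by group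
          _ = v * v := by rw [hee, one_mul]
      rw [mul_inv_eq_iff_eq_mul] at h1
      exact h1
    have hz : v * v = zz K := hU.sq_eq h hK hv hv4
    have hz' : w * w = zz L := hU.sq_eq h hL hw hw4
    have hzz : zz K * zz K = 1 := h.zz_mul hK
    have hzz' : zz L * zz L = 1 := h.zz_mul hL
    by_cases he1 : e = 1
    · -- class two with `c² = 1`
      have hwK : w ∈ normalizer (K : Set G) := by
        apply h.norm_four hP hL hK (hU.le L hL hw) hwP hw4.ge
        rw [he1, one_mul, mul_inv_eq_iff_eq_mul, hz] at k2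
        exact k2
      have hvL : v ∈ normalizer (L : Set G) := by
        apply h.norm_four hP hK hL (hU.le K hK hv) hvP hv4.ge
        rw [he1, one_mul, mul_inv_eq_iff_eq_mul, hz'] at k2'
        exact k2'
      have h1 := hU.conj_mem hK hv w
      rw [mem_normalizer_iff_cj.mp hwK] at h1
      have h2 := hU.conj_mem hL hw v
      rw [mem_normalizer_iff_cj.mp hvL] at h2
      have hwvP : w * v * w⁻¹ ∈ P := P.mul_mem (P.mul_mem hwP hvP) (P.inv_mem hwP)
      have hvwP : v * w * v⁻¹ ∈ P := P.mul_mem (P.mul_mem hvP hwP) (P.inv_mem hvP)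
      rcases hU.eq_or hK hv hv4 h1 (orderOf_conj_four hv4 w) hP hvP hwvP with h3 | h3
      · rw [mul_inv_eq_iff_eq_mul] at h3
        exact hvw h3.symm
      rcases hU.eq_or hL hw hw4 h2 (orderOf_conj_four hw4 v) hP hwP hvwP with h4 | h4
      · rw [mul_inv_eq_iff_eq_mul] at h4
        exact hvw h4
      have h5 : c = zz K := by
        rw [wvw, ← eq_mul_inv_iff_mul_eq, ← mul_inv_rev, inv_inj] at h3
        rw [h3, hz]
      have h6 : c = zz L := by
        rw [vwv, ← eq_mul_inv_iff_mul_eq, ← mul_inv_rev, hz', h.zz_inv hL] at h4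
        exact h4
      exact hvw (hU.comm_of_zz_eq h hK hL (h5.symm.trans h6) hP hv hvP hv4 hw hwP hw4)
    · -- `c² ≠ 1`
      have hmove : Cit.cj (w * w) K ≠ K := by
        intro hh
        have h1 := hU.conj_mem hK hv (w * w)
        rw [hh] at h1
        have h2 : w * w * v * (w * w)⁻¹ ∈ P :=
          P.mul_mem (P.mul_mem (P.mul_mem hwP hwP) hvP) (P.inv_mem (P.mul_mem hwP hwP))
        rcases hU.eq_or hK hv hv4 h1 (orderOf_conj_four hv4 _) hP hvP h2 with h3 | h3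
        · rw [k1] at h3
          exact he1 (by simpa using h3)
        · rw [k1, ← eq_mul_inv_iff_mul_eq, ← mul_inv_rev, hz, h.zz_inv hK] at h3
          rw [h3, hz, hzz, mul_inv_eq_one] at k2
          exact h.zz_ne hK (by simpa using k2)
      obtain ⟨L₁, hL₁, L₂, hL₂, -, hzL₁, hzL₂, u₁, hu₁, u₂, hu₂, hu₁4, hu₂4, hu⟩ :=
        hU.split h hK hv hv4 hP hvP hwP k1 k2 hev.eq htt hmove
      have hmove' : Cit.cj (v * v) L ≠ L := by
        intro hh
        have h1 := hU.conj_mem hL hw (v * v)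
        rw [hh] at h1
        have h2 : v * v * w * (v * v)⁻¹ ∈ P :=
          P.mul_mem (P.mul_mem (P.mul_mem hvP hvP) hwP) (P.inv_mem (P.mul_mem hvP hvP))
        rcases hU.eq_or hL hw hw4 h1 (orderOf_conj_four hw4 _) hP hwP h2 with h3 | h3
        · rw [k1'] at h3
          exact he1 (by simpa using h3)
        · rw [k1', ← eq_mul_inv_iff_mul_eq, ← mul_inv_rev, hz', h.zz_inv hL] at h3
          rw [h3, hz', hzz', mul_inv_eq_one] at k2'
          exact h.zz_ne hL (by simpa using k2')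
      obtain ⟨M₁, hM₁, M₂, hM₂, -, hzM₁, hzM₂, t₁, ht₁, t₂, ht₂, ht₁4, ht₂4, ht⟩ :=
        hU.split h hL hw hw4 hP hwP hvP k1' k2' hew.eq htt.symm hmove'
      -- a Sylow 2-subgroup of `C(e)`
      obtain ⟨T, hT, hPT⟩ := exists_syl_ge (P := P ⊓ centralizer {e}) (hP.to_le inf_le_left) inf_le_right
      have hvT : v ∈ T := hPT ⟨hvP, mem_centralizer_singleton_iff.mpr hev.symm.eq⟩
      have hwT : w ∈ T := hPT ⟨hwP, mem_centralizer_singleton_iff.mpr hew.symm.eq⟩
      have mT : ∀ M : Subgroup G, M ∈ Om → zz M = e → M ∈ OmS Om T := by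
        intro M hM hz
        apply h.mem_OmS_of_syl hM
        rw [hz]
        exact hT
      obtain ⟨a₁, ha₁, a₂, ha₂, ha₁T, ha₂T, ha₁4, ha₂4, ha⟩ :=
        hU.split_mem h (hzL₁.trans hzL₂.symm) hT.2.1 (mT _ hL₁ hzL₁) (mT _ hL₂ hzL₂) hu₁ hu₂ hu₁4 hu₂4
          (by rw [← hu]; exact T.mul_mem hvT hvT)
      obtain ⟨b₁, hb₁, b₂, hb₂, hb₁T, hb₂T, hb₁4, hb₂4, hb⟩ :=
        hU.split_mem h (hzM₁.trans hzM₂.symm) hT.2.1 (mT _ hM₁ hzM₁) (mT _ hM₂ hzM₂) ht₁ ht₂ ht₁4 ht₂4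
          (by rw [← ht]; exact T.mul_mem hwT hwT)
      have comm : ∀ (M : Subgroup G), M ∈ Om → zz M = e → ∀ b ∈ U M, b ∈ T → orderOf b = 4 →
          b ∈ normalizer (K : Set G) := by
        intro M hM hzM b hb hbT hb4
        apply h.norm_four hT.2.1 hM hK (hU.le M hM hb) hbT hb4.ge
        rw [← hz, hu, ha]
        have d1 : Commute b a₁ := hU.comm_of_zz_eq h hM hL₁ (hzM.trans hzL₁.symm) hT.2.1 hb hbT hb4 ha₁ ha₁T ha₁4
        have d2 : Commute b a₂ := hU.comm_of_zz_eq h hM hL₂ (hzM.trans hzL₂.symm) hT.2.1 hb hbT hb4 ha₂ ha₂T ha₂4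
        exact (d1.mul_right d2).eq
      apply hmove
      rw [← mem_normalizer_iff_cj, ht, hb]
      exact mul_mem (comm M₁ hM₁ hzM₁ b₁ hb₁ hb₁T hb₁4) (comm M₂ hM₂ hzM₂ b₂ hb₂ hb₂T hb₂4)

/-- **Theorem V**: elements of order `4` of the `U K`, `K ∈ Om`, in a common 2-group commute -/
theorem commute (hU : VChoice Om U) (h : Hyp Om) {P : Subgroup G} (hP : IsPGroup 2 P) {K L : Subgroup G}
    (hK : K ∈ Om) (hL : L ∈ Om) {v w : G} (hv : v ∈ U K) (hw : w ∈ U L) (hv4 : orderOf v = 4)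
    (hw4 : orderOf w = 4) (hvP : v ∈ P) (hwP : w ∈ P) : v * w = w * v :=
  hU.commute_aux h _ P rfl hP K hK L hL v hv w hw hv4 hw4 hvP hwP

/-- the set of the elements of order `4` of the `U K` -/
def VV (Om : Set (Subgroup G)) (U : Subgroup G → Subgroup G) : Set G :=
  {v | orderOf v = 4 ∧ ∃ K ∈ Om, v ∈ U K}

/-- for every 2-subgroup `S` the weak closure `⟨VV ∩ S⟩` is abelian -/
theorem closure_comm (hU : VChoice Om U) (h : Hyp Om) {S : Subgroup G} (hS : IsPGroup 2 S) :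
    ∀ a ∈ closure (VV Om U ∩ S), ∀ b ∈ closure (VV Om U ∩ S), a * b = b * a := by
  have h1 : closure (VV Om U ∩ S) ≤ centralizer (VV Om U ∩ (S : Set G)) := by
    rw [closure_le]
    rintro a ⟨⟨ha4, K, hK, haK⟩, haS⟩
    rw [SetLike.mem_coe, mem_centralizer_iff]
    rintro b ⟨⟨hb4, L, hL, hbL⟩, hbS⟩
    exact hU.commute h hS hL hK hbL haK hb4 ha4 hbS haS
  intro a ha b hb
  have h2 : closure (VV Om U ∩ S) ≤ centralizer ({a} : Set G) := by
    rw [closure_le]
    intro b hb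
    rw [SetLike.mem_coe, mem_centralizer_singleton_iff]
    exact mem_centralizer_iff.mp (h1 ha) b hb
  exact (mem_centralizer_singleton_iff.mp (h2 hb)).symm

end VChoice

end Cfsg.Agent.Cit
end

-- part: Cit/TauMain
section
prune_inst 0xe0000600082200000000000000000000000000000000000010800400050714000000200040000c001800000400340020010000004000000000000000011801a00020000001000000000000002003180c00000000000000000000000000041000000000000
set_option linter.all false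
open scoped Cfsg.Agent.FastGrp

-- part: Cit/TauHom
section
/-!
# A homomorphism to `±1` from a double cover (abstract part of Theorem TAU, (6b))

`G` acts on a finite set `X` and on a set `T`; `F x` = frames at `x`; `δ x t t' = ±1` measures whether two frames at `x`
are equal.  The product over `x` of `δ (g x) (g t_x) t_{g x}` is a homomorphism.  Its value on an element `y` of order
dividing `4` is computed from the fixed points of `y` and `y²`.
-/

set_option autoImplicit false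

namespace Cfsg.Agent.Cit.TauHom

variable {G X T : Type*} [Group G]

/-- the data -/
structure Cover (G X T : Type*) [Group G] where
  a : G → X → X
  a_one : ∀ x, a 1 x = x
  a_mul : ∀ g h x, a (g * h) x = a g (a h x)
  b : G → T → T
  b_one : ∀ t, b 1 t = t
  b_mul : ∀ g h t, b (g * h) t = b g (b h t)
  F : X → T → Prop
  ex : ∀ x, ∃ t, F x t
  bF : ∀ g x t, F x t → F (a g x) (b g t)
  δ : X → T → T → ℤˣ
  δ_mul : ∀ x t t' t'', F x t → F x t' → F x t'' → δ x t t'' = δ x t t' * δ x t' t''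
  δ_b : ∀ g x t t', F x t → F x t' → δ (a g x) (b g t) (b g t') = δ x t t'

namespace Cover

variable (C : Cover G X T)

noncomputable def fr (x : X) : T := (C.ex x).choose

theorem fr_spec (x : X) : C.F x (C.fr x) := (C.ex x).choose_spec

/-- the cocycle -/
noncomputable def c (g : G) (x : X) : ℤˣ := C.δ (C.a g x) (C.b g (C.fr x)) (C.fr (C.a g x))

theorem c_mul (g h : G) (x : X) : C.c (g * h) x = C.c h x * C.c g (C.a h x) := by
  have h1 := C.δ_mul (C.a (g * h) x) (C.b (g * h) (C.fr x)) (C.b g (C.fr (C.a h x))) (C.fr (C.a (g * h) x))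
    (C.bF _ _ _ (C.fr_spec x)) (by rw [C.a_mul]; exact C.bF _ _ _ (C.fr_spec _)) (C.fr_spec _)
  have h2 := C.δ_b g (C.a h x) (C.b h (C.fr x)) (C.fr (C.a h x)) (C.bF _ _ _ (C.fr_spec x)) (C.fr_spec _)
  rw [c, h1, C.b_mul, C.a_mul, h2]
  rfl

theorem c_one (x : X) : C.c 1 x = 1 := by
  have h1 := C.c_mul 1 1 x
  rw [mul_one, C.a_one] at h1
  exact (mul_eq_left.mp h1.symm)

theorem δ_self {x : X} {t : T} (ht : C.F x t) : C.δ x t t = 1 := by
  have h1 := C.δ_mul x t t t ht ht ht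
  exact (mul_eq_left.mp h1.symm)

/-- at a fixed point the cocycle does not depend on the frame -/
theorem c_eq {g : G} {x : X} (hx : C.a g x = x) {t : T} (ht : C.F x t) : C.c g x = C.δ x (C.b g t) t := by
  have hb : C.F x (C.b g t) := by have := C.bF g x t ht; rwa [hx] at this
  have hb' : C.F x (C.b g (C.fr x)) := by have := C.bF g x _ (C.fr_spec x); rwa [hx] at this
  have h0 : C.δ x (C.b g (C.fr x)) (C.b g t) = C.δ x (C.fr x) t := by
    have := C.δ_b g x (C.fr x) t (C.fr_spec x) ht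
    rwa [hx] at this
  have h1 := C.δ_mul x (C.b g (C.fr x)) (C.b g t) (C.fr x) hb' hb (C.fr_spec x)
  have h2 := C.δ_mul x (C.b g t) t (C.fr x) hb ht (C.fr_spec x)
  have h3 := C.δ_mul x (C.fr x) t (C.fr x) (C.fr_spec x) ht (C.fr_spec x)
  rw [C.δ_self (C.fr_spec x)] at h3
  rw [c, hx, h1, h0, h2]
  calc C.δ x (C.fr x) t * (C.δ x (C.b g t) t * C.δ x t (C.fr x))
      = (C.δ x (C.fr x) t * C.δ x t (C.fr x)) * C.δ x (C.b g t) t := by
        rw [mul_comm (C.δ x (C.b g t) t), mul_assoc]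
    _ = _ := by rw [← h3, one_mul]

def perm (g : G) : X ≃ X where
  toFun := C.a g
  invFun := C.a g⁻¹
  left_inv x := by rw [← C.a_mul, inv_mul_cancel, C.a_one]
  right_inv x := by rw [← C.a_mul, mul_inv_cancel, C.a_one]

/-- the homomorphism -/
noncomputable def f [Fintype X] : G →* ℤˣ where
  toFun g := ∏ x, C.c g x
  map_one' := by simp only [C.c_one, _root_.Finset.prod_const_one]
  map_mul' g h := by
    have h1 : ∏ x, C.c g (C.a h x) = ∏ x, C.c g x := Equiv.prod_comp (C.perm h) (C.c g)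
    rw [← h1, ← Finset.prod_mul_distrib]
    exact Finset.prod_congr rfl fun x _ => by rw [C.c_mul, mul_comm]

theorem sq_one (u : ℤˣ) : u * u = 1 := by
  rcases Int.units_eq_one_or u with rfl | rfl <;> rfl

/-- the contribution of the points moved by `z = y²` is trivial -/
theorem prod_moved [Fintype X] [DecidableEq X] {y : G} (hy : y * y * (y * y) = 1) :
    ∏ x ∈ Finset.univ.filter (fun x => C.a (y * y) x ≠ x), C.c y x = 1 := by
  classical
  obtain ⟨r, hr⟩ : ∃ r : X → ℕ, Function.Injective r :=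
    ⟨fun x => (Fintype.equivFin X x : ℕ), fun x x' hh => (Fintype.equivFin X).injective (Fin.ext hh)⟩
  set S := Finset.univ.filter (fun x => C.a (y * y) x ≠ x) with hS
  have hzz : ∀ x, C.a (y * y) (C.a (y * y) x) = x := fun x => by rw [← C.a_mul, hy, C.a_one]
  have hyS : ∀ x ∈ S, C.a y x ∈ S := by
    intro x hx
    simp only [hS, Finset.mem_filter, Finset.mem_univ, true_and] at hx ⊢
    intro h1
    apply hx
    have h2 : C.a y (C.a (y * y) x) = C.a y x := by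
      have h3 : C.a (y * y) (C.a y x) = C.a y (C.a (y * y) x) := by
        rw [← C.a_mul, ← C.a_mul, mul_assoc]
      rw [← h3]
      exact h1
    exact (C.perm y).injective h2
  have hzS : ∀ x ∈ S, C.a (y * y) x ∈ S := fun x hx => by
    rw [C.a_mul]; exact hyS _ (hyS _ hx)
  -- a coboundary
  let e : X → ℤˣ := fun x => if r x < r (C.a (y * y) x) then C.c (y * y) x else 1
  have he : ∀ x ∈ S, e x * e (C.a (y * y) x) = C.c (y * y) x := by
    intro x hx
    have hne : r x ≠ r (C.a (y * y) x) := by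
      intro h1
      simp only [hS, Finset.mem_filter, Finset.mem_univ, true_and] at hx
      exact hx (hr h1).symm
    have h1 : C.c (y * y) x * C.c (y * y) (C.a (y * y) x) = 1 := by
      rw [← C.c_mul, hy, C.c_one]
    have h2 : C.c (y * y) (C.a (y * y) x) = C.c (y * y) x := by
      rw [← mul_right_inj (C.c (y * y) x), h1, sq_one]
    simp only [e, hzz]
    rcases lt_or_gt_of_ne hne with h3 | h3
    · rw [if_pos h3, if_neg (by omega), mul_one]
    · rw [if_neg (by omega), if_pos h3, one_mul, h2]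
  have hprod : ∏ x ∈ S, C.c y x = ∏ x ∈ S, (C.c y x * (e x * e (C.a y x))) := by
    rw [Finset.prod_mul_distrib, Finset.prod_mul_distrib]
    have h1 : ∏ x ∈ S, e (C.a y x) = ∏ x ∈ S, e x := by
      refine Finset.prod_bij (fun x _ => C.a y x) (fun x hx => hyS x hx) ?_ ?_ (fun _ _ => rfl)
      · intro x _ x' _ hh
        exact (C.perm y).injective hh
      · intro x hx
        refine ⟨C.a (y * (y * y)) x, ?_, ?_⟩
        · rw [C.a_mul]; exact hyS _ (hzS _ hx)
        · rw [← C.a_mul, ← mul_assoc, hy, C.a_one]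
    rw [h1, sq_one, mul_one]
  rw [hprod]
  refine Finset.prod_involution (fun x _ => C.a (y * y) x) ?_ ?_ (fun x hx => hzS x hx) (fun x _ => hzz x)
  · intro x hx
    -- c(y,x) c(y,zx) = c(z,x) c(z,yx)
    have h1 : C.c (y * y * y) x = C.c y x * C.c (y * y) (C.a y x) := C.c_mul _ _ _
    have h2 : C.c (y * (y * y)) x = C.c (y * y) x * C.c y (C.a (y * y) x) := C.c_mul _ _ _
    rw [← mul_assoc] at h2
    have h3 : C.c y x * C.c y (C.a (y * y) x) = C.c (y * y) x * C.c (y * y) (C.a y x) := by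
      have h4 : C.c y x * C.c (y * y) (C.a y x) = C.c (y * y) x * C.c y (C.a (y * y) x) := h1.symm.trans h2
      calc C.c y x * C.c y (C.a (y * y) x)
          = (C.c (y * y) x * C.c (y * y) x) * (C.c y x * C.c y (C.a (y * y) x)) := by rw [sq_one, one_mul]
        _ = C.c (y * y) x * C.c y x * (C.c (y * y) x * C.c y (C.a (y * y) x)) := by
            rw [mul_assoc, mul_assoc, mul_left_comm (C.c (y * y) x) (C.c y x)]
        _ = C.c (y * y) x * C.c y x * (C.c y x * C.c (y * y) (C.a y x)) := by rw [h4]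
        _ = C.c (y * y) x * (C.c y x * C.c y x) * C.c (y * y) (C.a y x) := by simp only [mul_assoc]
        _ = _ := by rw [sq_one, mul_one]
    have h5 := he x hx
    have h6 := he (C.a y x) (hyS x hx)
    have h7 : C.a (y * y) (C.a y x) = C.a y (C.a (y * y) x) := by
      rw [← C.a_mul, ← C.a_mul, mul_assoc]
    rw [h7] at h6
    calc C.c y x * (e x * e (C.a y x)) * (C.c y (C.a (y * y) x) * (e (C.a (y * y) x) * e (C.a y (C.a (y * y) x))))
        = (C.c y x * C.c y (C.a (y * y) x)) * ((e x * e (C.a (y * y) x)) * (e (C.a y x) * e (C.a y (C.a (y * y) x)))) := by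
          simp only [mul_assoc, mul_left_comm]
      _ = _ := by rw [h3, h5, h6, sq_one]
  · intro x hx _ hh
    simp only [hS, Finset.mem_filter, Finset.mem_univ, true_and] at hx
    exact hx hh

/-- the value of `f` on an element `y` with `y⁴ = 1` -/
theorem f_eq [Fintype X] {y : G} (hy : y * y * (y * y) = 1)
    (hz : ∀ x, C.a (y * y) x = x → ∃ t, C.F x t ∧ C.δ x (C.b (y * y) t) t = 1) (x₀ : X) (hx₀ : C.a y x₀ = x₀)
    (h0 : ∃ t, C.F x₀ t ∧ C.δ x₀ (C.b y t) t = -1)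
    (h1 : ∀ x, x ≠ x₀ → C.a y x = x → ∃ t, C.F x t ∧ C.δ x (C.b y t) t = 1) : C.f y = -1 := by
  classical
  have e0 : C.c y x₀ = -1 := by
    obtain ⟨t, ht, h⟩ := h0
    rw [C.c_eq hx₀ ht, h]
  have e1 : ∀ x, x ≠ x₀ → C.a y x = x → C.c y x = 1 := by
    intro x hne hx
    obtain ⟨t, ht, h⟩ := h1 x hne hx
    rw [C.c_eq hx ht, h]
  have ez : ∀ x, C.a (y * y) x = x → C.c (y * y) x = 1 := by
    intro x hx
    obtain ⟨t, ht, h⟩ := hz x hx
    rw [C.c_eq hx ht, h]
  have hf : C.f y = ∏ x, C.c y x := rfl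
  rw [hf, ← Finset.prod_filter_mul_prod_filter_not Finset.univ (fun x => C.a (y * y) x ≠ x), C.prod_moved hy,
    one_mul, ← Finset.prod_filter_mul_prod_filter_not _ (fun x => C.a y x = x)]
  have p1 : ∏ x ∈ (Finset.univ.filter (fun x => ¬ C.a (y * y) x ≠ x)).filter (fun x => C.a y x = x), C.c y x = -1 := by
    rw [← e0]
    refine Finset.prod_eq_single_of_mem x₀ ?_ ?_
    · simp only [Finset.mem_filter, Finset.mem_univ, true_and, not_not]
      exact ⟨by rw [C.a_mul, hx₀, hx₀], hx₀⟩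
    · intro x hx hne
      simp only [Finset.mem_filter, Finset.mem_univ, true_and, not_not] at hx
      exact e1 x hne hx.2
  have p2 : ∏ x ∈ (Finset.univ.filter (fun x => ¬ C.a (y * y) x ≠ x)).filter (fun x => ¬ C.a y x = x), C.c y x = 1 := by
    refine Finset.prod_involution (fun x _ => C.a y x) ?_ ?_ ?_ ?_
    · intro x hx
      simp only [Finset.mem_filter, Finset.mem_univ, true_and, not_not] at hx
      rw [← C.c_mul]
      exact ez x hx.1
    · intro x hx _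
      simp only [Finset.mem_filter, Finset.mem_univ, true_and, not_not] at hx
      exact hx.2
    · intro x hx
      simp only [Finset.mem_filter, Finset.mem_univ, true_and, not_not] at hx ⊢
      have h7 : C.a (y * y) (C.a y x) = C.a y (C.a (y * y) x) := by
        rw [← C.a_mul, ← C.a_mul, mul_assoc]
      refine ⟨by rw [h7, hx.1], fun h8 => hx.2 ((C.perm y).injective h8)⟩
    · intro x hx
      simp only [Finset.mem_filter, Finset.mem_univ, true_and, not_not] at hx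
      rw [← C.a_mul]
      exact hx.1
  rw [p1, p2, mul_one]

end Cover

end Cfsg.Agent.Cit.TauHom
end

-- part: Cit/Tau
section
/-!
# Theorem TAU (helper545, bb #5436), (6b): local part

`XX U K` = the centraliser in `K` of `U K / O(K)` (`= O(K) X_K`, `X_K` cyclic of index two in a Sylow 2-subgroup of `K`).
Coordinates `Loc` for `K / O(K)`, two-nilpotency of the members, action of 2-elements of `N(K)` in coordinates.
-/

set_option autoImplicit false
set_option linter.style.haveILetI false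
set_option linter.unusedSectionVars false

namespace Cfsg.Agent.Cit.Tau

open Subgroup Cfsg Cfsg.Agent.Cit

variable {G : Type*} [Group G]

theorem conj_OO {K : Subgroup G} {g x : G} (hg : g ∈ normalizer (K : Set G)) (hx : x ∈ OO K) :
    g * x * g⁻¹ ∈ OO K := by
  have h1 : cj g (OO K) = OO K := by rw [← OO_cj, mem_normalizer_iff_cj.mp hg]
  rw [← h1]
  exact conj_mem_cj hx

/-- the elements of `K` centralising `U K / O(K)` -/
def XX (U : Subgroup G → Subgroup G) (K : Subgroup G) : Subgroup G where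
  carrier := {x | x ∈ K ∧ ∀ w ∈ U K, x * w * x⁻¹ * w⁻¹ ∈ OO K}
  one_mem' := ⟨K.one_mem, fun w _ => by simp [(OO K).one_mem]⟩
  mul_mem' := by
    rintro x y ⟨hx, hx'⟩ ⟨hy, hy'⟩
    refine ⟨K.mul_mem hx hy, fun w hw => ?_⟩
    have h1 := (OO K).mul_mem (conj_OO (le_normalizer hx) (hy' w hw)) (hx' w hw)
    have h2 : x * (y * w * y⁻¹ * w⁻¹) * x⁻¹ * (x * w * x⁻¹ * w⁻¹) = x * y * w * (x * y)⁻¹ * w⁻¹ := by group
    rwa [h2] at h1
  inv_mem' := by
    rintro x ⟨hx, hx'⟩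
    refine ⟨K.inv_mem hx, fun w hw => ?_⟩
    have h1 := conj_OO (inv_mem (le_normalizer hx)) ((OO K).inv_mem (hx' w hw))
    have h2 : x⁻¹ * (x * w * x⁻¹ * w⁻¹)⁻¹ * x⁻¹⁻¹ = x⁻¹ * w * x⁻¹⁻¹ * w⁻¹ := by group
    rwa [h2] at h1

variable {U : Subgroup G → Subgroup G}

theorem mem_XX {K : Subgroup G} {x : G} : x ∈ XX U K ↔ x ∈ K ∧ ∀ w ∈ U K, x * w * x⁻¹ * w⁻¹ ∈ OO K := Iff.rfl

theorem XX_le (K : Subgroup G) : XX U K ≤ K := fun _ hx => hx.1

theorem OO_le_XX (K : Subgroup G) (hUK : U K ≤ K) : OO K ≤ XX U K := by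
  intro x hx
  refine ⟨OO_le K hx, fun w hw => ?_⟩
  have h1 := conj_OO (le_normalizer (hUK hw)) ((OO K).inv_mem hx)
  have h2 := (OO K).mul_mem hx h1
  have h3 : x * (w * x⁻¹ * w⁻¹) = x * w * x⁻¹ * w⁻¹ := by group
  rwa [h3] at h2

/-- conjugation -/
theorem conj_mem_XX {g x : G} {K : Subgroup G} (hg : U (cj g K) = cj g (U K)) :
    g * x * g⁻¹ ∈ XX U (cj g K) ↔ x ∈ XX U K := by
  rw [mem_XX, mem_XX, conj_mem_cj_iff, hg, OO_cj]
  refine and_congr Iff.rfl ⟨fun h w hw => ?_, fun h w hw => ?_⟩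
  · have h1 := h _ (conj_mem_cj (g := g) hw)
    have h2 : g * x * g⁻¹ * (g * w * g⁻¹) * (g * x * g⁻¹)⁻¹ * (g * w * g⁻¹)⁻¹ = g * (x * w * x⁻¹ * w⁻¹) * g⁻¹ := by group
    rwa [h2, conj_mem_cj_iff] at h1
  · obtain ⟨w', hw', rfl⟩ : ∃ w' ∈ U K, w = g * w' * g⁻¹ := ⟨g⁻¹ * w * g, mem_cj.mp hw, by group⟩
    have h2 : g * x * g⁻¹ * (g * w' * g⁻¹) * (g * x * g⁻¹)⁻¹ * (g * w' * g⁻¹)⁻¹ = g * (x * w' * x⁻¹ * w'⁻¹) * g⁻¹ := by group
    rw [h2, conj_mem_cj_iff]
    exact h w' hw'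

/-- the elements of `XX U K` which are squares modulo `O(K)` -/
def W2 (U : Subgroup G → Subgroup G) (K : Subgroup G) (x : G) : Prop := ∃ k ∈ XX U K, (k * k)⁻¹ * x ∈ OO K

theorem conj_W2 {g x : G} {K : Subgroup G} (hg : U (cj g K) = cj g (U K)) :
    W2 U (cj g K) (g * x * g⁻¹) ↔ W2 U K x := by
  constructor
  · rintro ⟨k, hk, hx⟩
    obtain ⟨k', rfl⟩ : ∃ k', k = g * k' * g⁻¹ := ⟨g⁻¹ * k * g, by group⟩
    rw [conj_mem_XX hg] at hk
    refine ⟨k', hk, ?_⟩
    have h2 : (g * k' * g⁻¹ * (g * k' * g⁻¹))⁻¹ * (g * x * g⁻¹) = g * ((k' * k')⁻¹ * x) * g⁻¹ := by group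
    rwa [h2, OO_cj, conj_mem_cj_iff] at hx
  · rintro ⟨k, hk, hx⟩
    refine ⟨g * k * g⁻¹, (conj_mem_XX hg).mpr hk, ?_⟩
    have h2 : (g * k * g⁻¹ * (g * k * g⁻¹))⁻¹ * (g * x * g⁻¹) = g * ((k * k)⁻¹ * x) * g⁻¹ := by group
    rw [h2, OO_cj, conj_mem_cj_iff]
    exact hx

variable [Finite G] {Om : Set (Subgroup G)}

/-- a 2-subgroup of `N(K)` lies in a 2-subgroup of `N(K)` containing a Sylow 2-subgroup of `K` -/
theorem exists_T {K P : Subgroup G} (hK : K ∈ Om) (hP : IsPGroup 2 P) (hPK : P ≤ normalizer (K : Set G)) :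
    ∃ T : Subgroup G, IsPGroup 2 T ∧ P ≤ T ∧ T ≤ normalizer (K : Set G) ∧ K ∈ OmS Om T := by
  obtain ⟨T, hT, hPT⟩ := exists_syl_ge hP hPK
  refine ⟨T, hT.2.1, hPT, hT.1, hK, ?_⟩
  intro h2
  apply hT.2.2
  haveI : (K.subgroupOf (normalizer (K : Set G))).Normal := normal_in_normalizer
  have h3 := SignalizersComponents.PCompCore.relIndex_dvd_index_of_normal_right
    (T.subgroupOf (normalizer (K : Set G))) (K.subgroupOf (normalizer (K : Set G)))
  rw [relIndex_subgroupOf le_normalizer] at h3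
  exact h2.trans h3

section UU

variable (hU : VChoice Om U)
include hU

theorem UU_comm {K : Subgroup G} (hK : K ∈ Om) {a b : G} (ha : a ∈ U K) (hb : b ∈ U K) :
    a * b * a⁻¹ * b⁻¹ ∈ OO K := by
  haveI : Fact (Nat.Prime 2) := ⟨Nat.prime_two⟩
  have hOn : U K ≤ normalizer (OO K : Set G) := (hU.le K hK).trans (le_normalizer_OO K)
  haveI hN : ((OO K).subgroupOf (U K)).Normal := (normal_subgroupOf_iff_le_normalizer (hU.oo K hK)).2 hOn
  have hc4 : Nat.card (U K ⧸ (OO K).subgroupOf (U K)) = 2 ^ 2 := by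
    have h3 := card_mul_index ((OO K).subgroupOf (U K))
    rw [Nat.card_congr (subgroupOfEquivOfLe (hU.oo K hK)).toEquiv, hU.card K hK, mul_comm 4] at h3
    exact Nat.eq_of_mul_eq_mul_left Nat.card_pos h3
  have hcomm : ∀ a b : U K ⧸ (OO K).subgroupOf (U K), a * b = b * a :=
    (IsPGroup.isMulCommutative_of_card_eq_prime_sq hc4).is_comm.comm
  have h4 : ((⟨a, ha⟩ * ⟨b, hb⟩ * ⟨a, ha⟩⁻¹ * ⟨b, hb⟩⁻¹ : U K) : U K ⧸ (OO K).subgroupOf (U K)) = 1 := by
    rw [QuotientGroup.mk_mul, QuotientGroup.mk_mul, QuotientGroup.mk_mul, QuotientGroup.mk_inv,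
      QuotientGroup.mk_inv, hcomm (QuotientGroup.mk ⟨a, ha⟩), mul_inv_cancel_right, mul_inv_cancel]
  rw [QuotientGroup.eq_one_iff] at h4
  exact h4

/-- elements of order four of `U K` are equal or inverse modulo `O(K)` -/
theorem UU_or {K : Subgroup G} (hK : K ∈ Om) {v w : G} (hv : v ∈ U K) (hw : w ∈ U K) (hv4 : orderOf v = 4)
    (hw4 : orderOf w = 4) : v⁻¹ * w ∈ OO K ∨ v * w ∈ OO K := by
  obtain ⟨k, hk, hkw⟩ := (hU.syl_zpowers hK hv hv4).exists_conj (hU.syl_zpowers hK hw hw4)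
  have h1 : k * v * k⁻¹ ∈ zpowers w := by rw [← hkw]; exact conj_mem_cj (mem_zpowers v)
  have h2 := UU_comm hU hK (a := k) (b := v) hk hv
  have hvn : v ∈ normalizer (K : Set G) := le_normalizer (hU.le K hK hv)
  have h3 : v⁻¹ * (k * v * k⁻¹) ∈ OO K := by
    have := conj_OO (inv_mem hvn) h2
    have h4 : v⁻¹ * (k * v * k⁻¹ * v⁻¹) * v⁻¹⁻¹ = v⁻¹ * (k * v * k⁻¹) := by group
    rwa [h4] at this
  rcases eq_or_eq_inv_of_four hw4 (orderOf_conj_four hv4 k) h1 with h4 | h4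
  · left
    rwa [h4] at h3
  · right
    rw [h4] at h3
    have h5 := conj_OO hvn h3
    have h6 : v * (v⁻¹ * w⁻¹) * v⁻¹ = (v * w)⁻¹ := by group
    rw [h6] at h5
    exact (inv_mem_iff (H := OO K)).mp h5

/-- the action of `N(K)` on `U K / O(K)` -/
theorem act_or {K : Subgroup G} (hK : K ∈ Om) {g w : G} (hg : g ∈ normalizer (K : Set G)) (hw : w ∈ U K)
    (hw4 : orderOf w = 4) : g * w * g⁻¹ * w⁻¹ ∈ OO K ∨ g * w * g⁻¹ * w ∈ OO K := by
  have h1 : g * w * g⁻¹ ∈ U K := (mem_normalizer_iff.mp (hU.le_normalizer hK hg) w).mp hw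
  have hwn : w ∈ normalizer (K : Set G) := le_normalizer (hU.le K hK hw)
  rcases UU_or hU hK hw h1 hw4 (orderOf_conj_four hw4 g) with h2 | h2
  · left
    have h3 := conj_OO hwn h2
    have h4 : w * (w⁻¹ * (g * w * g⁻¹)) * w⁻¹ = g * w * g⁻¹ * w⁻¹ := by group
    rwa [h4] at h3
  · right
    have h3 := conj_OO (inv_mem hwn) h2
    have h4 : w⁻¹ * (w * (g * w * g⁻¹)) * w⁻¹⁻¹ = g * w * g⁻¹ * w := by group
    rwa [h4] at h3

/-- squares of elements of `N(K)` centralise `U K / O(K)` -/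
theorem sq_act {K : Subgroup G} (hK : K ∈ Om) {g w : G} (hg : g ∈ normalizer (K : Set G)) (hw : w ∈ U K)
    (hw4 : orderOf w = 4) : (g * g) * w * (g * g)⁻¹ * w⁻¹ ∈ OO K := by
  have hwn : w ∈ normalizer (K : Set G) := le_normalizer (hU.le K hK hw)
  rcases act_or hU hK hg hw hw4 with h1 | h1
  · have h2 := (OO K).mul_mem (conj_OO hg h1) h1
    have h3 : g * (g * w * g⁻¹ * w⁻¹) * g⁻¹ * (g * w * g⁻¹ * w⁻¹) = (g * g) * w * (g * g)⁻¹ * w⁻¹ := by group
    rwa [h3] at h2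
  · have h2 := conj_OO hg h1
    have h3 := conj_OO hwn ((OO K).inv_mem h1)
    have h4 := (OO K).mul_mem h2 h3
    have h5 : g * (g * w * g⁻¹ * w) * g⁻¹ * (w * (g * w * g⁻¹ * w)⁻¹ * w⁻¹) = (g * g) * w * (g * g)⁻¹ * w⁻¹ := by group
    rwa [h5] at h4

/-- decomposition of `U K` -/
theorem UU_decomp {K : Subgroup G} (hK : K ∈ Om) {w : G} (hw : w ∈ U K) (hw4 : orderOf w = 4) {x : G}
    (hx : x ∈ U K) : ∃ o ∈ OO K, ∃ i : ℕ, x = o * w ^ i := by
  have hs := hU.syl_zpowers hK hw hw4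
  have h1 : Nat.card ((OO K).subgroupOf (U K)) = Nat.card (OO K) :=
    Nat.card_congr (subgroupOfEquivOfLe (hU.oo K hK)).toEquiv
  have h2 : Nat.card ((zpowers w).subgroupOf (U K)) = 4 := by
    rw [Nat.card_congr (subgroupOfEquivOfLe hs.1).toEquiv, Nat.card_zpowers, hw4]
  have hodd := odd_OO K
  have h3 : IsComplement' ((OO K).subgroupOf (U K)) ((zpowers w).subgroupOf (U K)) := by
    apply isComplement'_of_coprime
    · rw [h1, h2, hU.card K hK]; ring
    · rw [h1, h2]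
      have : Nat.Coprime (Nat.card (OO K)) (2 ^ 2) :=
        Nat.Coprime.pow_right 2 ((Nat.Prime.coprime_iff_not_dvd Nat.prime_two).2 hodd).symm
      simpa only [_root_.Nat.reducePow] using this
  obtain ⟨⟨a, b⟩, hab⟩ := (h3.existsUnique ⟨x, hx⟩).exists
  have hb : ((b : U K) : G) ∈ zpowers w := b.2
  obtain ⟨i, hi⟩ := (isOfFinOrder_of_finite w).mem_powers_iff_mem_zpowers.mpr hb
  refine ⟨((a : U K) : G), a.2, i, ?_⟩
  have h4 := congrArg Subtype.val hab
  simp only [Subgroup.coe_mul] at h4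
  rw [← h4]
  simp only at hi
  rw [hi]

theorem mem_XX_iff {K : Subgroup G} (hK : K ∈ Om) {w : G} (hw : w ∈ U K) (hw4 : orderOf w = 4) {x : G} (hx : x ∈ K) :
    x ∈ XX U K ↔ x * w * x⁻¹ * w⁻¹ ∈ OO K := by
  refine ⟨fun h => h.2 w hw, fun h => ⟨hx, fun w' hw' => ?_⟩⟩
  obtain ⟨o, ho, i, rfl⟩ := UU_decomp hU hK hw hw4 hw'
  have hxn : x ∈ normalizer (K : Set G) := le_normalizer hx
  have hwn : w ∈ normalizer (K : Set G) := le_normalizer (hU.le K hK hw)
  have key : ∀ i : ℕ, x * w ^ i * x⁻¹ * (w ^ i)⁻¹ ∈ OO K := by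
    intro i
    induction i with
    | zero => simp [(OO K).one_mem]
    | succ i ih =>
      have h1 := conj_OO hwn ih
      have h2 := (OO K).mul_mem h h1
      have h3 : x * w * x⁻¹ * w⁻¹ * (w * (x * w ^ i * x⁻¹ * (w ^ i)⁻¹) * w⁻¹) =
          x * w ^ (i + 1) * x⁻¹ * (w ^ (i + 1))⁻¹ := by
        rw [pow_succ' w i]; group
      rwa [h3] at h2
  have h1 := (OO K).mul_mem ((OO K).mul_mem (conj_OO hxn ho) (key i)) ((OO K).inv_mem ho)
  have h2 : x * o * x⁻¹ * (x * w ^ i * x⁻¹ * (w ^ i)⁻¹) * o⁻¹ = x * (o * w ^ i) * x⁻¹ * (o * w ^ i)⁻¹ := by group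
  rwa [h2] at h1

theorem inv_of_not_mem_XX {K : Subgroup G} (hK : K ∈ Om) {w : G} (hw : w ∈ U K) (hw4 : orderOf w = 4) {x : G}
    (hx : x ∈ K) (hx' : x ∉ XX U K) : x * w * x⁻¹ * w ∈ OO K := by
  rw [mem_XX_iff hU hK hw hw4 hx] at hx'
  exact (act_or hU hK (le_normalizer hx) hw hw4).resolve_left hx'

/-- `XX U K` has index at most two -/
theorem mul_mem_XX {K : Subgroup G} (hK : K ∈ Om) {x y : G} (hx : x ∈ K) (hy : y ∈ K) (hx' : x ∉ XX U K)
    (hy' : y ∉ XX U K) : x * y ∈ XX U K := by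
  obtain ⟨w, hw, hw4⟩ := hU.ex K hK
  have hwn : w ∈ normalizer (K : Set G) := le_normalizer (hU.le K hK hw)
  rw [mem_XX_iff hU hK hw hw4 (K.mul_mem hx hy)]
  have h1 := conj_OO (le_normalizer hx) (inv_of_not_mem_XX hU hK hw hw4 hy hy')
  have h2 := conj_OO hwn ((OO K).inv_mem (inv_of_not_mem_XX hU hK hw hw4 hx hx'))
  have h3 := (OO K).mul_mem h1 h2
  have h4 : x * (y * w * y⁻¹ * w) * x⁻¹ * (w * (x * w * x⁻¹ * w)⁻¹ * w⁻¹) = x * y * w * (x * y)⁻¹ * w⁻¹ := by group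
  rwa [h4] at h3

theorem inv_mul_mem_XX {K : Subgroup G} (hK : K ∈ Om) {x y : G} (hx : x ∈ K) (hy : y ∈ K) (hx' : x ∉ XX U K)
    (hy' : y ∉ XX U K) : x⁻¹ * y ∈ XX U K :=
  mul_mem_XX hU hK (K.inv_mem hx) hy (fun hh => hx' ((inv_mem_iff (H := XX U K)).mp hh)) hy'

theorem le_normalizer_XX {K : Subgroup G} (hK : K ∈ Om) : normalizer (K : Set G) ≤ normalizer (XX U K : Set G) := by
  intro g hg
  have h1 := mem_normalizer_iff_cj.mp hg
  rw [mem_normalizer_iff]
  intro x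
  have h2 := conj_mem_XX (g := g) (x := x) (hU.cj K hK g)
  rw [h1] at h2
  exact h2.symm

end UU

/-! ### Coordinates -/

section Coord

variable (h : Hyp Om) (hU : VChoice Om U)
include h hU

theorem exists_coord {L T : Subgroup G} (hT : IsPGroup 2 T) (hL : L ∈ OmS Om T) :
    ∃ c v n, GQ (L ⊓ T) c v (zz L) n ∧ c ^ 2 ^ n ∈ U L := by
  obtain ⟨c, v, n, hc⟩ := h.exists_gq hL.1 (syl_inf hT hL)
  obtain ⟨w₀, hw₀, hw₀4⟩ := hU.ex L hL.1
  obtain ⟨w, hw, hwT, hw4, -⟩ := hU.exists_mem hT hL hw₀ hw₀4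
  have hwL := hU.le L hL.1 hw
  have hc4 : c ^ 2 ^ n * c ^ 2 ^ n = zz L := by
    rw [← pow_add, ← two_mul, ← pow_succ', hc.z_eq]
  have hcc4 : orderOf (c ^ 2 ^ n) = 4 := GQ.orderOf_of_sq hc4 hc.z_mul hc.z_ne
  have hww : w * w = zz L := hU.sq_eq h hL.1 hw hw4
  rcases hc.cov w ⟨hwL, hwT⟩ with ⟨i, hi⟩ | ⟨i, hi⟩
  · refine ⟨c, v, n, hc, ?_⟩
    -- `w = c^i` of order four
    have h1 : (c ^ 2 ^ n) * (c ^ i)⁻¹ * ((c ^ 2 ^ n) * (c ^ i)⁻¹) = 1 := by
      have h2 : Commute (c ^ 2 ^ n) (c ^ i)⁻¹ := ((Commute.refl c).pow_pow _ _).inv_right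
      rw [← hi] at h2 ⊢
      calc (c ^ 2 ^ n) * w⁻¹ * ((c ^ 2 ^ n) * w⁻¹) = (c ^ 2 ^ n) * (w⁻¹ * (c ^ 2 ^ n)) * w⁻¹ := by group
        _ = (c ^ 2 ^ n) * ((c ^ 2 ^ n) * w⁻¹) * w⁻¹ := by rw [h2.eq]
        _ = ((c ^ 2 ^ n) * (c ^ 2 ^ n)) * (w * w)⁻¹ := by group
        _ = 1 := by rw [hc4, hww, mul_inv_cancel]
    by_cases h3 : (c ^ 2 ^ n) * (c ^ i)⁻¹ = 1
    · rw [mul_inv_eq_one] at h3
      rw [h3, ← hi]
      exact hw
    · have h4 := hc.eq_z ((L ⊓ T).mul_mem ((L ⊓ T).pow_mem hc.c_mem _)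
        ((L ⊓ T).inv_mem ((L ⊓ T).pow_mem hc.c_mem i))) h1 h3
      rw [mul_inv_eq_iff_eq_mul, ← hi] at h4
      rw [h4, ← hww]
      exact (U L).mul_mem ((U L).mul_mem hw hw) hw
  · -- `w` outside `⟨c⟩`: then `c` has order four
    have hcn : c ∈ normalizer (L : Set G) := le_normalizer hc.c_mem.1
    have h1 : c * w * c⁻¹ ∈ U L := (mem_normalizer_iff.mp (hU.le_normalizer hL.1 hcn) w).mp hw
    have hcwT : c * w * c⁻¹ ∈ T := T.mul_mem (T.mul_mem hc.c_mem.2 hwT) (T.inv_mem hc.c_mem.2)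
    have hwc : w * c * w⁻¹ = c⁻¹ := by
      rw [hi]
      calc v * c ^ i * c * (v * c ^ i)⁻¹ = v * (c ^ i * c * (c ^ i)⁻¹) * v⁻¹ := by group
        _ = v * c * v⁻¹ := by rw [((Commute.refl c).pow_left i).eq, mul_inv_cancel_right]
        _ = c⁻¹ := hc.conj
    have h2 : c * w * c⁻¹ = c * c * w := by
      have h3 : w * c⁻¹ = c * w := by
        have h4 : w * c⁻¹ * w⁻¹ = c := by
          calc w * c⁻¹ * w⁻¹ = (w * c * w⁻¹)⁻¹ := by group
            _ = c := by rw [hwc, inv_inv]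
        calc w * c⁻¹ = w * c⁻¹ * w⁻¹ * w := by group
          _ = c * w := by rw [h4]
      rw [mul_assoc, h3, mul_assoc]
    have hcc : c * c = zz L := by
      rcases hU.eq_or hL.1 hw hw4 h1 (orderOf_conj_four hw4 c) hT hwT hcwT with h3 | h3
      · rw [h2] at h3
        exact absurd (by simpa only [_root_.mul_eq_right] using h3 : c * c = 1) hc.c_sq_ne
      · rw [h2] at h3
        have h5 : c * c = w⁻¹ * w⁻¹ := eq_mul_inv_of_mul_eq h3
        rw [h5, ← mul_inv_rev, hww, h.zz_inv hL.1]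
    have hn : n = 0 := by
      by_contra hn
      have h3 : c ^ 4 = 1 := by
        rw [show 4 = 2 + 2 by norm_num, pow_add, pow_two, hcc, hc.z_mul]
      have h4 := orderOf_dvd_of_pow_eq_one h3
      rw [hc.ord] at h4
      have h5 := Nat.le_of_dvd (by norm_num) h4
      have h6 : 2 ^ 3 ≤ 2 ^ (n + 2) := Nat.pow_le_pow_right (by norm_num) (by omega)
      omega
    subst hn
    refine ⟨w, c, 0, ⟨⟨hwL, hwT⟩, hc.c_mem, by simpa using hw4, ?_, hcc, ?_, ?_⟩, by simpa using hw⟩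
    · simpa [pow_two] using hww
    · rw [h2, hcc, ← hww]
      have : w * w * w * w = 1 := by
        rw [mul_assoc, hww, hc.z_mul]
      exact eq_inv_of_mul_eq_one_left this
    · have hcc' : c * c = w * w := by rw [hcc, hww]
      have k1 : ∀ j : ℕ, (∃ i : ℕ, c ^ j = w ^ i) ∨ (∃ i : ℕ, c ^ j = c * w ^ i) := by
        intro j
        induction j with
        | zero => exact Or.inl ⟨0, by simp⟩
        | succ j ih =>
          rw [pow_succ']
          rcases ih with ⟨k, hk⟩ | ⟨k, hk⟩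
          · exact Or.inr ⟨k, by rw [hk]⟩
          · refine Or.inl ⟨k + 2, ?_⟩
            rw [hk, ← mul_assoc, hcc', ← pow_two, ← pow_add, Nat.add_comm]
      have k2 : ∀ x : G, ((∃ i : ℕ, x = w ^ i) ∨ (∃ i : ℕ, x = c * w ^ i)) →
          ((∃ i : ℕ, w * x = w ^ i) ∨ (∃ i : ℕ, w * x = c * w ^ i)) := by
        rintro x (⟨k, rfl⟩ | ⟨k, rfl⟩)
        · exact Or.inl ⟨k + 1, by rw [pow_succ']⟩
        · refine Or.inr ⟨k + 3, ?_⟩
          have h6 : w * c = c⁻¹ * w := by rw [← hwc]; group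
          have h7 : c⁻¹ = c * (w * w) := by
            rw [← hcc']
            have : c * (c * c) * c = 1 := by
              rw [← mul_assoc, mul_assoc (c * c), hcc, hc.z_mul]
            exact inv_eq_of_mul_eq_one_left this
          rw [← mul_assoc, h6, h7]
          rw [show k + 3 = 3 + k by ring, pow_add, pow_succ, pow_two]
          group
      intro x hx
      rcases hc.cov x hx with ⟨j, rfl⟩ | ⟨j, rfl⟩
      · exact k1 j
      · have h6 : v * c ^ j = w * ((c ^ i)⁻¹ * c ^ j) := by rw [hi]; group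
        obtain ⟨m, hm⟩ : ∃ m : ℕ, (c ^ i)⁻¹ * c ^ j = c ^ m := by
          have h7 : (c ^ i)⁻¹ * c ^ j ∈ zpowers c :=
            (zpowers c).mul_mem ((zpowers c).inv_mem (pow_mem (mem_zpowers c) i)) (pow_mem (mem_zpowers c) j)
          obtain ⟨m, hm⟩ := (isOfFinOrder_of_finite c).mem_powers_iff_mem_zpowers.mpr h7
          exact ⟨m, hm.symm⟩
        rw [h6, hm]
        exact k2 _ (k1 m)

/-- `XX U L` in a 2-group -/
theorem mem_XX_T {L T : Subgroup G} (hT : IsPGroup 2 T) (hL : L ∈ Om) {w x : G} (hw : w ∈ U L) (hwT : w ∈ T)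
    (hw4 : orderOf w = 4) (hx : x ∈ L) (hxT : x ∈ T) : x ∈ XX U L ↔ x * w = w * x := by
  rw [mem_XX_iff hU hL hw hw4 hx]
  constructor
  · intro h1
    have h2 := eq_one_of_mem_odd hT (odd_OO L)
      (T.mul_mem (T.mul_mem (T.mul_mem hxT hwT) (T.inv_mem hxT)) (T.inv_mem hwT)) h1
    rwa [mul_inv_eq_one, mul_inv_eq_iff_eq_mul] at h2
  · intro h1
    rw [h1, mul_inv_cancel_right, mul_inv_cancel]
    exact (OO L).one_mem

/-- the cyclic part in coordinates -/
theorem mem_XX_coord {L T : Subgroup G} (hT : IsPGroup 2 T) (hL : L ∈ OmS Om T) {c v : G} {n : ℕ}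
    (hc : GQ (L ⊓ T) c v (zz L) n) (hw : c ^ 2 ^ n ∈ U L) {x : G} (hx : x ∈ L ⊓ T) :
    x ∈ XX U L ↔ ∃ i : ℕ, x = c ^ i := by
  have hc4 : c ^ 2 ^ n * c ^ 2 ^ n = zz L := by
    rw [← pow_add, ← two_mul, ← pow_succ', hc.z_eq]
  have hcc4 : orderOf (c ^ 2 ^ n) = 4 := GQ.orderOf_of_sq hc4 hc.z_mul hc.z_ne
  rw [mem_XX_T h hU hT hL.1 hw (T.pow_mem hc.c_mem.2 _) hcc4 hx.1 hx.2]
  constructor
  · intro h1
    rcases hc.cov x hx with h2 | ⟨i, hi⟩
    · exact h2
    · exfalso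
      have h3 : x * c ^ 2 ^ n = (c ^ 2 ^ n)⁻¹ * x := by
        rw [hi, mul_assoc, ((Commute.refl c).pow_pow i (2 ^ n)).eq, ← mul_assoc, hc.conj_pow, mul_assoc]
      rw [h1] at h3
      have h4 := mul_right_cancel h3
      rw [← mul_eq_one_iff_eq_inv] at h4
      rw [hc4] at h4
      exact hc.z_ne h4
  · rintro ⟨i, rfl⟩
    exact ((Commute.refl c).pow_pow i (2 ^ n)).eq

theorem v_not_mem_XX {L T : Subgroup G} (hT : IsPGroup 2 T) (hL : L ∈ OmS Om T) {c v : G} {n : ℕ}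
    (hc : GQ (L ⊓ T) c v (zz L) n) (hw : c ^ 2 ^ n ∈ U L) : v ∉ XX U L := by
  rw [mem_XX_coord h hU hT hL hc hw hc.v_mem]
  rintro ⟨i, hi⟩
  apply hc.not_comm
  rw [hi]
  exact ((Commute.refl c).pow_left i).eq

/-- `XX U L` is 2-nilpotent -/
theorem XX_decomp {L T : Subgroup G} (hT : IsPGroup 2 T) (hL : L ∈ OmS Om T) {x : G} (hx : x ∈ XX U L) :
    ∃ o ∈ OO L, ∃ t ∈ L ⊓ T, x = o * t := by
  haveI : Fact (Nat.Prime 2) := ⟨Nat.prime_two⟩
  obtain ⟨c, v, n, hc, hw⟩ := exists_coord h hU hT hL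
  have hXL : XX U L ≤ L := XX_le L
  have hn : L ≤ normalizer (XX U L : Set G) := le_normalizer.trans (le_normalizer_XX hU hL.1)
  have h1 : Syl (XX U L ⊓ T) (XX U L) := by
    refine ⟨inf_le_left, hT.to_le inf_le_right, ?_⟩
    rw [inf_comm, inf_relIndex_right]
    intro h2
    apply hL.2
    haveI : ((XX U L).subgroupOf L).Normal := (normal_subgroupOf_iff_le_normalizer hXL).2 hn
    have h3 := SignalizersComponents.PCompCore.relIndex_dvd_index_of_normal_right (T.subgroupOf L)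
      ((XX U L).subgroupOf L)
    rw [relIndex_subgroupOf hXL] at h3
    exact h2.trans h3
  obtain ⟨S, hS⟩ := h1.exists_sylow
  have hcyc : IsCyclic S := by
    have hcy : IsCyclic ↥(XX U L ⊓ T) := by
      have hle : XX U L ⊓ T ≤ zpowers c := by
        intro y hy
        obtain ⟨i, rfl⟩ := (mem_XX_coord h hU hT hL hc hw ⟨hXL hy.1, hy.2⟩).mp hy.1
        exact pow_mem (mem_zpowers c) i
      exact isCyclic_of_injective (inclusion hle) (inclusion_injective hle)
    have e : ↥(S : Subgroup (XX U L)) ≃* ↥(XX U L ⊓ T) := by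
      rw [hS]
      exact subgroupOfEquivOfLe inf_le_left
    exact isCyclic_of_surjective e.symm e.symm.surjective
  have hmin : (Nat.card (XX U L)).minFac = 2 := by
    rw [Nat.minFac_eq_two_iff]
    have h2 : zz L ∈ XX U L := by
      rw [mem_XX_coord h hU hT hL hc hw hc.z_mem]
      exact ⟨2 ^ (n + 1), hc.z_eq.symm⟩
    have h3 := _root_.orderOf_dvd_natCard (⟨zz L, h2⟩ : XX U L)
    rwa [Subgroup.orderOf_mk, h.orderOf_zz hL.1] at h3
  have hcomp := hcyc.isComplement' hmin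
  set N := (MonoidHom.transferSylow S (hcyc.normalizer_le_centralizer hmin)).ker with hN
  have hNodd : ¬ 2 ∣ Nat.card N := by
    rw [← hcomp.index_eq_card]
    exact S.not_dvd_index
  have hNO : N ≤ oddCore (XX U L) := by
    refine Lib.Cores.le_pPrimeCore (MonoidHom.normal_ker _) ?_
    rw [Nat.coprime_comm]
    exact (Nat.Prime.coprime_iff_not_dvd Nat.prime_two).2 hNodd
  have hOO : OO (XX U L) ≤ OO L := by
    refine le_OO ((OO_le _).trans hXL) ?_ (odd_OO _)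
    intro g hg
    rw [mem_normalizer_iff_cj, ← OO_cj, mem_normalizer_iff_cj.mp (hn hg)]
  obtain ⟨⟨a, b⟩, hab⟩ := (hcomp.existsUnique ⟨x, hx⟩).exists
  have h4 := congrArg Subtype.val hab
  simp only [Subgroup.coe_mul] at h4
  refine ⟨((a : XX U L) : G), hOO ⟨_, hNO a.2, rfl⟩, ((b : XX U L) : G), ⟨hXL (b : XX U L).2, ?_⟩, h4.symm⟩
  have hb : (b : XX U L) ∈ (XX U L ⊓ T).subgroupOf (XX U L) := by
    rw [← hS]; exact b.2
  exact hb.2

/-- the members are 2-nilpotent -/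
theorem decomp {L T : Subgroup G} (hT : IsPGroup 2 T) (hL : L ∈ OmS Om T) {x : G} (hx : x ∈ L) :
    ∃ o ∈ OO L, ∃ t ∈ L ⊓ T, x = o * t := by
  obtain ⟨c, v, n, hc, hw⟩ := exists_coord h hU hT hL
  by_cases hx' : x ∈ XX U L
  · exact XX_decomp h hU hT hL hx'
  · have hv := v_not_mem_XX h hU hT hL hc hw
    obtain ⟨o, ho, t, ht, hot⟩ := XX_decomp h hU hT hL (mul_mem_XX hU hL.1 hc.v_mem.1 hx hv hx')
    refine ⟨v⁻¹ * o * v⁻¹⁻¹, conj_OO (inv_mem (le_normalizer hc.v_mem.1)) ho, v⁻¹ * t,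
      (L ⊓ T).mul_mem ((L ⊓ T).inv_mem hc.v_mem) ht, ?_⟩
    have h1 : x = v⁻¹ * (v * x) := by group
    rw [h1, hot]; group

end Coord

end Cfsg.Agent.Cit.Tau
end

-- part: Cit/TauMain
section
/-!
# Theorem TAU (helper545, bb #5436), (6b)

`tau`: if the members of `Om` have an equivariant `V_K` (`VChoice Om U`), there is a homomorphism `f : G → ±1` with
`f = 1` on `XX U K` and `f = -1` on `K \ XX U K` for all `K ∈ Om`; so `G` has a subgroup of index two meeting every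
`K` in `O(K) X_K`.

Instead of the transfer of helper545 the proof uses the permutation sign on all of `Om` (class by class fixed points).
-/

set_option autoImplicit false
set_option linter.style.haveILetI false
set_option linter.unusedSectionVars false

namespace Cfsg.Agent.Cit.TauMain

open Subgroup Cfsg Cfsg.Agent.Cit Cfsg.Agent.Cit.Tau

variable {G : Type*} [Group G] [Finite G] {Om : Set (Subgroup G)} {U : Subgroup G → Subgroup G}

theorem sq_commute {X : Type*} [Group X] {g w : X} (h : g * w = w * g ∨ g * w * g⁻¹ = w⁻¹) : w * (g * g) = (g * g) * w := by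
  rcases h with h3 | h3
  · have : Commute w g := h3.symm
    exact (this.mul_right this).eq
  · have h4 : g * (g * w * g⁻¹) * g⁻¹ = w := by
      rw [h3]
      have : g * w⁻¹ * g⁻¹ = (g * w * g⁻¹)⁻¹ := by group
      rw [this, h3, inv_inv]
    have h5 : g * g * w * (g * g)⁻¹ = w := by
      have : g * g * w * (g * g)⁻¹ = g * (g * w * g⁻¹) * g⁻¹ := by group
      rw [this, h4]
    exact (mul_inv_eq_iff_eq_mul.mp h5).symm

/-- the retraction `L → L ⊓ T` with kernel `O(L)` -/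
structure Ret (L T : Subgroup G) (ρ : L →* G) : Prop where
  fix : ∀ (x : G) (hx : x ∈ L), x ∈ T → ρ ⟨x, hx⟩ = x
  ker : ∀ (x : G) (hx : x ∈ L), ρ ⟨x, hx⟩ = 1 ↔ x ∈ OO L
  mem : ∀ x, ρ x ∈ L ⊓ T

section

variable (h : Hyp Om) (hU : VChoice Om U)
include h hU

theorem exists_ret {L T : Subgroup G} (hT : IsPGroup 2 T) (hL : L ∈ OmS Om T) : ∃ ρ : L →* G, Ret L T ρ := by
  haveI hN : ((OO L).subgroupOf L).Normal := (normal_subgroupOf_iff_le_normalizer (OO_le L)).2 (le_normalizer_OO L)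
  set φ : ↥((L ⊓ T).subgroupOf L) →* L ⧸ (OO L).subgroupOf L :=
    (QuotientGroup.mk' ((OO L).subgroupOf L)).comp ((L ⊓ T).subgroupOf L).subtype with hφ
  have hinj : Function.Injective φ := by
    rw [injective_iff_map_eq_one]
    rintro ⟨⟨x, hxL⟩, hx⟩ h1
    have h2 : (⟨x, hxL⟩ : L) ∈ (OO L).subgroupOf L := by
      have h3 : ((⟨x, hxL⟩ : L) : L ⧸ (OO L).subgroupOf L) = 1 := h1
      exact (QuotientGroup.eq_one_iff _).mp h3
    have h3 : x = 1 := eq_one_of_mem_odd hT (odd_OO L) hx.2 h2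
    subst h3
    rfl
  have hsurj : Function.Surjective φ := by
    intro y
    obtain ⟨x, rfl⟩ := QuotientGroup.mk_surjective y
    obtain ⟨o, ho, t, ht, hx⟩ := decomp h hU hT hL x.2
    refine ⟨⟨⟨t, ht.1⟩, ht⟩, ?_⟩
    change ((⟨t, ht.1⟩ : L) : L ⧸ (OO L).subgroupOf L) = (x : L ⧸ (OO L).subgroupOf L)
    rw [QuotientGroup.eq]
    change t⁻¹ * (x : G) ∈ OO L
    rw [hx]
    have := conj_OO (inv_mem (le_normalizer ht.1)) ho
    have h4 : t⁻¹ * o * t⁻¹⁻¹ = t⁻¹ * (o * t) := by group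
    rwa [h4] at this
  set e := MulEquiv.ofBijective φ ⟨hinj, hsurj⟩ with he
  set ρ : L →* G := (L.subtype.comp ((L ⊓ T).subgroupOf L).subtype).comp
    (e.symm.toMonoidHom.comp (QuotientGroup.mk' ((OO L).subgroupOf L))) with hρ
  have hfix : ∀ (x : G) (hx : x ∈ L), x ∈ T → ρ ⟨x, hx⟩ = x := by
    intro x hx hxT
    have h1 : e ⟨⟨x, hx⟩, ⟨hx, hxT⟩⟩ = QuotientGroup.mk' ((OO L).subgroupOf L) ⟨x, hx⟩ := rfl
    have h2 : e.symm (QuotientGroup.mk' ((OO L).subgroupOf L) ⟨x, hx⟩) = ⟨⟨x, hx⟩, ⟨hx, hxT⟩⟩ := by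
      rw [← h1, MulEquiv.symm_apply_apply]
    change (((e.symm (QuotientGroup.mk' ((OO L).subgroupOf L) ⟨x, hx⟩) : ↥((L ⊓ T).subgroupOf L)) : L) : G) = x
    rw [h2]
  refine ⟨ρ, hfix, ?_, ?_⟩
  · intro x hx
    have h1 : ρ ⟨x, hx⟩ = 1 ↔ e.symm (QuotientGroup.mk' ((OO L).subgroupOf L) ⟨x, hx⟩) = 1 := by
      constructor
      · intro h2
        have h3 : (((e.symm (QuotientGroup.mk' ((OO L).subgroupOf L) ⟨x, hx⟩) : ↥((L ⊓ T).subgroupOf L)) : L) : G) = 1 := h2
        exact Subtype.ext (Subtype.ext h3)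
      · intro h2
        change (((e.symm (QuotientGroup.mk' ((OO L).subgroupOf L) ⟨x, hx⟩) : ↥((L ⊓ T).subgroupOf L)) : L) : G) = 1
        rw [h2]; rfl
    rw [h1, map_eq_one_iff e.symm e.symm.injective]
    exact (QuotientGroup.eq_one_iff _)
  · intro x
    exact (e.symm (QuotientGroup.mk' ((OO L).subgroupOf L) x)).2

end

/-- local data at `L` -/
structure Loc (U : Subgroup G → Subgroup G) (L T : Subgroup G) (c v : G) (n : ℕ) (ρ : L →* G) : Prop where
  gq : GQ (L ⊓ T) c v (zz L) n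
  w_mem : c ^ 2 ^ n ∈ U L
  ret : Ret L T ρ

theorem exists_loc (h : Hyp Om) (hU : VChoice Om U) {L T : Subgroup G} (hT : IsPGroup 2 T) (hL : L ∈ OmS Om T) :
    ∃ c v n ρ, Loc U L T c v n ρ := by
  obtain ⟨c, v, n, hc, hw⟩ := exists_coord h hU hT hL
  obtain ⟨ρ, hρ⟩ := exists_ret h hU hT hL
  exact ⟨c, v, n, ρ, hc, hw, hρ⟩

namespace Loc

variable {L T : Subgroup G} {c v : G} {n : ℕ} {ρ : L →* G}

theorem w_sq (l : Loc U L T c v n ρ) : c ^ 2 ^ n * c ^ 2 ^ n = zz L := by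
  rw [← pow_add, ← two_mul, ← pow_succ', l.gq.z_eq]

theorem orderOf_w (l : Loc U L T c v n ρ) : orderOf (c ^ 2 ^ n) = 4 :=
  GQ.orderOf_of_sq l.w_sq l.gq.z_mul l.gq.z_ne

/-- membership in `XX U L` -/
theorem mem_XX (l : Loc U L T c v n ρ) (h : Hyp Om) (hU : VChoice Om U) (hT : IsPGroup 2 T) (hL : L ∈ OmS Om T)
    {x : G} (hx : x ∈ L) : x ∈ XX U L ↔ ∃ i : ℕ, ρ ⟨x, hx⟩ = c ^ i := by
  have hm := l.ret.mem ⟨x, hx⟩
  rw [← mem_XX_coord h hU hT hL l.gq l.w_mem hm]
  -- `x` and `ρ x` differ by an element of `O(L)`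
  have h1 : x * (ρ ⟨x, hx⟩)⁻¹ ∈ OO L := by
    rw [← l.ret.ker _ (L.mul_mem hx (L.inv_mem hm.1))]
    have h2 : (⟨x * (ρ ⟨x, hx⟩)⁻¹, L.mul_mem hx (L.inv_mem hm.1)⟩ : L) = ⟨x, hx⟩ * ⟨ρ ⟨x, hx⟩, hm.1⟩⁻¹ := rfl
    rw [h2, map_mul, map_inv, l.ret.fix _ hm.1 hm.2, mul_inv_cancel]
  have h2 : x * (ρ ⟨x, hx⟩)⁻¹ ∈ XX U L := OO_le_XX L (hU.le L hL.1) h1
  constructor
  · intro h3
    have h4 := (XX U L).mul_mem ((XX U L).inv_mem h2) h3
    have h5 : (x * (ρ ⟨x, hx⟩)⁻¹)⁻¹ * x = ρ ⟨x, hx⟩ := by group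
    rwa [h5] at h4
  · intro h3
    have h4 := (XX U L).mul_mem h2 h3
    rwa [inv_mul_cancel_right] at h4

theorem mem_W2 (l : Loc U L T c v n ρ) (h : Hyp Om) (hU : VChoice Om U) (hT : IsPGroup 2 T) (hL : L ∈ OmS Om T)
    {x : G} (hx : x ∈ L) {i : ℕ} (hi : ρ ⟨x, hx⟩ = c ^ i) : W2 U L x ↔ Even i := by
  constructor
  · rintro ⟨k, hk, hkx⟩
    obtain ⟨j, hj⟩ := (l.mem_XX h hU hT hL (XX_le L hk)).mp hk
    have hkL := XX_le L hk
    rw [← l.ret.ker _ (L.mul_mem (L.inv_mem (L.mul_mem hkL hkL)) hx)] at hkx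
    have h2 : (⟨(k * k)⁻¹ * x, L.mul_mem (L.inv_mem (L.mul_mem hkL hkL)) hx⟩ : L) =
      (⟨k, hkL⟩ * ⟨k, hkL⟩)⁻¹ * ⟨x, hx⟩ := rfl
    rw [h2, map_mul, map_inv, map_mul, hj, hi, inv_mul_eq_one, ← pow_add, pow_inj_mod, l.gq.ord] at hkx
    have h3 : (j + j) % 2 = i % 2 := by
      have h4 : (2 : ℕ) ∣ 2 ^ (n + 2) := dvd_pow_self 2 (by omega)
      rw [← Nat.mod_mod_of_dvd (j + j) h4, hkx, Nat.mod_mod_of_dvd i h4]
    rw [Nat.even_iff]
    omega
  · rintro ⟨j, rfl⟩
    have hcj : c ^ j ∈ L ⊓ T := (L ⊓ T).pow_mem l.gq.c_mem j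
    refine ⟨c ^ j, (mem_XX_coord h hU hT hL l.gq l.w_mem hcj).mpr ⟨j, rfl⟩, ?_⟩
    rw [← l.ret.ker _ (L.mul_mem (L.inv_mem (L.mul_mem hcj.1 hcj.1)) hx)]
    have h2 : (⟨(c ^ j * c ^ j)⁻¹ * x, L.mul_mem (L.inv_mem (L.mul_mem hcj.1 hcj.1)) hx⟩ : L) =
      (⟨c ^ j, hcj.1⟩ * ⟨c ^ j, hcj.1⟩)⁻¹ * ⟨x, hx⟩ := rfl
    rw [h2, map_mul, map_inv, map_mul, l.ret.fix _ hcj.1 hcj.2, hi, pow_add, inv_mul_cancel]

/-- the squares have index two in `XX U L` -/
theorem W2_mul (l : Loc U L T c v n ρ) (h : Hyp Om) (hU : VChoice Om U) (hT : IsPGroup 2 T) (hL : L ∈ OmS Om T)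
    {x y : G} (hx : x ∈ XX U L) (hy : y ∈ XX U L) : W2 U L (x * y) ↔ (W2 U L x ↔ W2 U L y) := by
  have hxL := XX_le L hx
  have hyL := XX_le L hy
  obtain ⟨i, hi⟩ := (l.mem_XX h hU hT hL hxL).mp hx
  obtain ⟨j, hj⟩ := (l.mem_XX h hU hT hL hyL).mp hy
  have hxy : ρ ⟨x * y, L.mul_mem hxL hyL⟩ = c ^ (i + j) := by
    have h2 : (⟨x * y, L.mul_mem hxL hyL⟩ : L) = ⟨x, hxL⟩ * ⟨y, hyL⟩ := rfl
    rw [h2, map_mul, hi, hj, pow_add]
  rw [l.mem_W2 h hU hT hL hxL hi, l.mem_W2 h hU hT hL hyL hj, l.mem_W2 h hU hT hL (L.mul_mem hxL hyL) hxy,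
    Nat.even_add]

/-- action of an element of `T ∩ N(L)` in coordinates -/
theorem act (l : Loc U L T c v n ρ) (h : Hyp Om) (hU : VChoice Om U) (hT : IsPGroup 2 T) (hL : L ∈ OmS Om T)
    {g : G} (hg : g ∈ T) (hgL : g ∈ normalizer (L : Set G)) :
    ∃ a b : ℕ, g * c * g⁻¹ = c ^ a ∧ g * v * g⁻¹ = v * c ^ b ∧
      ((g * c ^ 2 ^ n = c ^ 2 ^ n * g ∧ a % 4 = 1) ∨ (g * c ^ 2 ^ n * g⁻¹ = (c ^ 2 ^ n)⁻¹ ∧ a % 4 = 3)) := by
  have hconj : ∀ x ∈ L ⊓ T, g * x * g⁻¹ ∈ L ⊓ T := fun x hx =>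
    ⟨(mem_normalizer_iff.mp hgL x).mp hx.1, T.mul_mem (T.mul_mem hg hx.2) (T.inv_mem hg)⟩
  have hXn : ∀ x, x ∈ XX U L ↔ g * x * g⁻¹ ∈ XX U L := mem_normalizer_iff.mp (le_normalizer_XX hU hL.1 hgL)
  have hcX : c ∈ XX U L := (mem_XX_coord h hU hT hL l.gq l.w_mem l.gq.c_mem).mpr ⟨1, by simp⟩
  obtain ⟨a, ha⟩ := (mem_XX_coord h hU hT hL l.gq l.w_mem (hconj c l.gq.c_mem)).mp ((hXn c).mp hcX)
  have hvX := v_not_mem_XX h hU hT hL l.gq l.w_mem
  obtain ⟨b, hb⟩ : ∃ b : ℕ, g * v * g⁻¹ = v * c ^ b := by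
    rcases l.gq.cov _ (hconj v l.gq.v_mem) with hb | hb
    · exact absurd ((hXn v).mpr ((mem_XX_coord h hU hT hL l.gq l.w_mem (hconj v l.gq.v_mem)).mpr hb)) hvX
    · exact hb
  refine ⟨a, b, ha, hb, ?_⟩
  have hwU : g * c ^ 2 ^ n * g⁻¹ ∈ U L := (mem_normalizer_iff.mp (hU.le_normalizer hL.1 hgL) _).mp l.w_mem
  have hwT : c ^ 2 ^ n ∈ T := T.pow_mem l.gq.c_mem.2 _
  have hpow : g * c ^ 2 ^ n * g⁻¹ = (c ^ 2 ^ n) ^ a := by
    rw [← conj_pow, ha, ← pow_mul, ← pow_mul, mul_comm]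
  have h4 : (c ^ 2 ^ n) ^ a = (c ^ 2 ^ n) ^ (a % 4) := by
    rw [← l.orderOf_w, pow_mod_orderOf]
  have hlt : a % 4 < 4 := Nat.mod_lt _ (by norm_num)
  have hne : c ^ 2 ^ n * c ^ 2 ^ n ≠ 1 := by rw [l.w_sq]; exact l.gq.z_ne
  rcases hU.eq_or hL.1 l.w_mem l.orderOf_w hwU (orderOf_conj_four l.orderOf_w g) hT hwT
    (T.mul_mem (T.mul_mem hg hwT) (T.inv_mem hg)) with h1 | h1
  · left
    refine ⟨mul_inv_eq_iff_eq_mul.mp h1, ?_⟩
    rw [hpow, h4] at h1
    have h2 : (c ^ 2 ^ n) ^ (a % 4) = (c ^ 2 ^ n) ^ 1 := by rw [h1, pow_one]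
    rw [pow_inj_mod, l.orderOf_w] at h2
    omega
  · right
    refine ⟨h1, ?_⟩
    rw [hpow, h4] at h1
    have h2 : (c ^ 2 ^ n) ^ (a % 4) = (c ^ 2 ^ n) ^ 3 := by
      have h5 := pow_orderOf_eq_one (c ^ 2 ^ n)
      rw [l.orderOf_w] at h5
      rw [h1, inv_eq_iff_mul_eq_one, ← pow_succ']
      exact h5
    rw [pow_inj_mod, l.orderOf_w] at h2
    omega

end Loc

/-! ### The double cover -/

open Classical in
/-- the sign of a proposition -/
noncomputable def sg (P : Prop) : ℤˣ := if P then 1 else -1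

theorem sg_mul {P Q R : Prop} (h : P ↔ (Q ↔ R)) : sg P = sg Q * sg R := by
  unfold sg
  by_cases hQ : Q <;> by_cases hR : R <;> simp [h, hQ, hR]

theorem sg_congr {P Q : Prop} (h : P ↔ Q) : sg P = sg Q := by rw [propext h]

/-- comparison of two frames at `L` -/
noncomputable def dl (U : Subgroup G → Subgroup G) (L : Subgroup G) (t t' : G × G) : ℤˣ :=
  sg (t.1⁻¹ * t'.1 ∈ OO L) * sg (W2 U L (t.2⁻¹ * t'.2))

/-- frames -/
def Fr (U : Subgroup G → Subgroup G) (L : Subgroup G) (t : G × G) : Prop :=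
  t.1 ∈ U L ∧ orderOf t.1 = 4 ∧ t.2 ∈ L ∧ t.2 ∉ XX U L

section

variable (h : Hyp Om) (hU : VChoice Om U)
include h hU

theorem dl_mul {L : Subgroup G} (hL : L ∈ Om) {t t' t'' : G × G} (ht : Fr U L t) (ht' : Fr U L t')
    (ht'' : Fr U L t'') : dl U L t t'' = dl U L t t' * dl U L t' t'' := by
  obtain ⟨hv, hv4, he, heX⟩ := ht
  obtain ⟨hv', hv4', he', heX'⟩ := ht'
  obtain ⟨hv'', hv4'', he'', heX''⟩ := ht''
  have h1 : t.1⁻¹ * t''.1 ∈ OO L ↔ (t.1⁻¹ * t'.1 ∈ OO L ↔ t'.1⁻¹ * t''.1 ∈ OO L) := by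
    have hm : t.1⁻¹ * t''.1 = (t.1⁻¹ * t'.1) * (t'.1⁻¹ * t''.1) := by group
    have hn' : t'.1 ∈ normalizer (L : Set G) := le_normalizer (hU.le L hL hv')
    by_cases hA : t.1⁻¹ * t'.1 ∈ OO L
    · rw [hm, mul_mem_cancel_left hA]
      simp [hA]
    · by_cases hB : t'.1⁻¹ * t''.1 ∈ OO L
      · rw [hm, mul_mem_cancel_right hB]
        simp [hA, hB]
      · simp only [hA, hB, iff_true]
        have hA' := (UU_or hU hL hv hv' hv4 hv4').resolve_left hA
        have hB' := (UU_or hU hL hv' hv'' hv4' hv4'').resolve_left hB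
        have h2 := (OO L).mul_mem (conj_OO hn' ((OO L).inv_mem hA')) hB'
        have h3 : t'.1 * (t.1 * t'.1)⁻¹ * t'.1⁻¹ * (t'.1 * t''.1) = t.1⁻¹ * t''.1 := by group
        rwa [h3] at h2
  obtain ⟨T, hT, -, -, hLT⟩ := exists_T hL (P := ⊥) (IsPGroup.of_bot) bot_le
  obtain ⟨c, v, n, ρ, l⟩ := exists_loc h hU hT hLT
  have h2 : W2 U L (t.2⁻¹ * t''.2) ↔ (W2 U L (t.2⁻¹ * t'.2) ↔ W2 U L (t'.2⁻¹ * t''.2)) := by
    have hm : t.2⁻¹ * t''.2 = (t.2⁻¹ * t'.2) * (t'.2⁻¹ * t''.2) := by group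
    rw [hm]
    exact l.W2_mul h hU hT hLT (inv_mul_mem_XX hU hL he he' heX heX') (inv_mul_mem_XX hU hL he' he'' heX' heX'')
  rw [dl, dl, dl, sg_mul h1, sg_mul h2]
  exact mul_mul_mul_comm _ _ _ _

theorem exists_fr {L : Subgroup G} (hL : L ∈ Om) : ∃ t, Fr U L t := by
  obtain ⟨T, hT, -, -, hLT⟩ := exists_T hL (P := ⊥) (IsPGroup.of_bot) bot_le
  obtain ⟨c, v, n, ρ, l⟩ := exists_loc h hU hT hLT
  exact ⟨(c ^ 2 ^ n, v), l.w_mem, l.orderOf_w, l.gq.v_mem.1, v_not_mem_XX h hU hT hLT l.gq l.w_mem⟩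

theorem fr_conj {L : Subgroup G} (hL : L ∈ Om) (g : G) {t : G × G} (ht : Fr U L t) :
    Fr U (cj g L) (g * t.1 * g⁻¹, g * t.2 * g⁻¹) :=
  ⟨hU.conj_mem hL ht.1 g, orderOf_conj_four ht.2.1 g, conj_mem_cj ht.2.2.1,
    fun hh => ht.2.2.2 ((conj_mem_XX (hU.cj L hL g)).mp hh)⟩

theorem dl_conj {L : Subgroup G} (hL : L ∈ Om) (g : G) (t t' : G × G) :
    dl U (cj g L) (g * t.1 * g⁻¹, g * t.2 * g⁻¹) (g * t'.1 * g⁻¹, g * t'.2 * g⁻¹) = dl U L t t' := by
  unfold dl
  have h1 : (g * t.1 * g⁻¹)⁻¹ * (g * t'.1 * g⁻¹) ∈ OO (cj g L) ↔ t.1⁻¹ * t'.1 ∈ OO L := by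
    have h2 : (g * t.1 * g⁻¹)⁻¹ * (g * t'.1 * g⁻¹) = g * (t.1⁻¹ * t'.1) * g⁻¹ := by group
    rw [h2, OO_cj, conj_mem_cj_iff]
  have h3 : W2 U (cj g L) ((g * t.2 * g⁻¹)⁻¹ * (g * t'.2 * g⁻¹)) ↔ W2 U L (t.2⁻¹ * t'.2) := by
    have h2 : (g * t.2 * g⁻¹)⁻¹ * (g * t'.2 * g⁻¹) = g * (t.2⁻¹ * t'.2) * g⁻¹ := by group
    rw [h2, conj_W2 (hU.cj L hL g)]
  simp only
  rw [sg_congr h1, sg_congr h3]

/-- the data for `TauHom` -/
noncomputable def cover : TauHom.Cover G {L // L ∈ Om} (G × G) where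
  a g L := ⟨cj g L.1, h.conj L.1 L.2 g⟩
  a_one L := Subtype.ext (cj_one L.1)
  a_mul g k L := Subtype.ext (cj_mul g k L.1)
  b g t := (g * t.1 * g⁻¹, g * t.2 * g⁻¹)
  b_one t := by simp
  b_mul g k t := by simp only [mul_assoc, _root_.mul_inv_rev]
  F L t := Fr U L.1 t
  ex L := exists_fr h hU L.2
  bF g L t ht := fr_conj h hU L.2 g ht
  δ L t t' := dl U L.1 t t'
  δ_mul L t t' t'' ht ht' ht'' := dl_mul h hU L.2 ht ht' ht''
  δ_b g L t t' _ _ := dl_conj h hU L.2 g t t'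

/-- the local sign in coordinates -/
theorem dl_coord {L T : Subgroup G} (hT : IsPGroup 2 T) (hL : L ∈ OmS Om T) {c v : G} {n : ℕ} {ρ : L →* G}
    (l : Loc U L T c v n ρ) {g : G} (hg : g ∈ T) {b : ℕ} (hb : g * v * g⁻¹ = v * c ^ b) :
    dl U L (g * c ^ 2 ^ n * g⁻¹, g * v * g⁻¹) (c ^ 2 ^ n, v) = sg (g * c ^ 2 ^ n = c ^ 2 ^ n * g) * sg (Even b) := by
  have hwT : c ^ 2 ^ n ∈ T := T.pow_mem l.gq.c_mem.2 _
  unfold dl
  have h1 : (g * c ^ 2 ^ n * g⁻¹)⁻¹ * c ^ 2 ^ n ∈ OO L ↔ g * c ^ 2 ^ n = c ^ 2 ^ n * g := by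
    constructor
    · intro h2
      have h3 := eq_one_of_mem_odd hT (odd_OO L)
        (T.mul_mem (T.inv_mem (T.mul_mem (T.mul_mem hg hwT) (T.inv_mem hg))) hwT) h2
      rw [inv_mul_eq_one] at h3
      exact mul_inv_eq_iff_eq_mul.mp h3
    · intro h2
      rw [h2, mul_inv_cancel_right, inv_mul_cancel]
      exact (OO L).one_mem
  have hcb : c ^ (b * (2 ^ (n + 2) - 1)) = (v * c ^ b)⁻¹ * v := by
    have h2 : c ^ (b * (2 ^ (n + 2) - 1)) * c ^ b = 1 := by
      rw [← pow_add]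
      have h3 : b * (2 ^ (n + 2) - 1) + b = 2 ^ (n + 2) * b := by
        have : 1 ≤ 2 ^ (n + 2) := Nat.one_le_two_pow
        zify [this]; ring
      rw [h3, pow_mul, ← l.gq.ord, pow_orderOf_eq_one, one_pow]
    rw [eq_inv_of_mul_eq_one_left h2]; group
  have hmL : (v * c ^ b)⁻¹ * v ∈ L ⊓ T := (L ⊓ T).mul_mem ((L ⊓ T).inv_mem ((L ⊓ T).mul_mem l.gq.v_mem
    ((L ⊓ T).pow_mem l.gq.c_mem b))) l.gq.v_mem
  have h3 : W2 U L ((g * v * g⁻¹)⁻¹ * v) ↔ Even b := by
    rw [hb]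
    have h4 : ρ ⟨(v * c ^ b)⁻¹ * v, hmL.1⟩ = c ^ (b * (2 ^ (n + 2) - 1)) := by
      rw [l.ret.fix _ hmL.1 hmL.2, hcb]
    rw [l.mem_W2 h hU hT hL hmL.1 h4, Nat.even_mul]
    have h5 : ¬ Even (2 ^ (n + 2) - 1) := by
      have h6 : 2 ^ (n + 2) = 2 * 2 ^ (n + 1) := by ring
      have h7 : 1 ≤ 2 ^ (n + 1) := Nat.one_le_two_pow
      rw [Nat.even_iff]
      omega
    simp only [h5, _root_.or_false]
  simp only
  rw [sg_congr h1, sg_congr h3]

/-- (1): the involutions `zz K` have local sign one -/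
theorem local_zz {K L : Subgroup G} (hK : K ∈ Om) (hL : L ∈ Om) (hz : zz K ∈ normalizer (L : Set G)) :
    ∃ t, Fr U L t ∧ dl U L (zz K * t.1 * (zz K)⁻¹, zz K * t.2 * (zz K)⁻¹) t = 1 := by
  have hzp : IsPGroup 2 (zpowers (zz K)) := by
    apply IsPGroup.of_card (n := 1)
    rw [Nat.card_zpowers, h.orderOf_zz hK, pow_one]
  obtain ⟨T, hT, hzT, hTL, hLT⟩ := exists_T hL hzp (zpowers_le.2 hz)
  have hzT' : zz K ∈ T := hzT (mem_zpowers _)
  obtain ⟨c, v, n, ρ, l⟩ := exists_loc h hU hT hLT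
  have hwT : c ^ 2 ^ n ∈ T := T.pow_mem l.gq.c_mem.2 _
  obtain ⟨a, b, ha, hb, hab⟩ := l.act h hU hT hLT hzT' hz
  refine ⟨(c ^ 2 ^ n, v), ⟨l.w_mem, l.orderOf_w, l.gq.v_mem.1, v_not_mem_XX h hU hT hLT l.gq l.w_mem⟩, ?_⟩
  simp only
  rw [dl_coord h hU hT hLT l hzT' hb]
  have hzz := h.zz_mul hK
  have hzi := h.zz_inv hK
  -- the powers of `c`
  have hcp : ∀ i : ℕ, zz K * c ^ i * (zz K)⁻¹ = c ^ (a * i) := fun i => by rw [← conj_pow, ha, pow_mul]
  rcases hab with ⟨h1, h2⟩ | ⟨h1, h2⟩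
  · -- `zz K` centralises `w`
    have h3 : c ^ (b + a * b) = 1 := by
      have h4 : zz K * (v * c ^ b) * (zz K)⁻¹ = v := by
        rw [← hb, hzi]
        calc zz K * (zz K * v * zz K) * zz K = (zz K * zz K) * v * (zz K * zz K) := by simp only [mul_assoc]
          _ = v := by rw [hzz, one_mul, mul_one]
      have h5 : zz K * (v * c ^ b) * (zz K)⁻¹ = v * c ^ (b + a * b) := by
        calc zz K * (v * c ^ b) * (zz K)⁻¹ = (zz K * v * (zz K)⁻¹) * (zz K * c ^ b * (zz K)⁻¹) := by group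
          _ = _ := by rw [hb, hcp, mul_assoc, ← pow_add]
      rw [h5] at h4
      exact mul_eq_left.mp h4
    have h4 := orderOf_dvd_of_pow_eq_one h3
    rw [l.gq.ord] at h4
    obtain ⟨k, hk⟩ : ∃ k, a = 4 * k + 1 := ⟨a / 4, by omega⟩
    have h5 : b + a * b = 2 * (b * (2 * k + 1)) := by rw [hk]; ring
    rw [h5, pow_succ', Nat.mul_dvd_mul_iff_left (by norm_num)] at h4
    have h6 : 2 ∣ b * (2 * k + 1) := (dvd_pow_self 2 (by omega)).trans h4
    have h7 : 2 ∣ b := by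
      rcases (Nat.Prime.dvd_mul Nat.prime_two).mp h6 with h8 | h8
      · exact h8
      · omega
    have h8 : Even b := even_iff_two_dvd.mpr h7
    simp only [sg, h1, h8, ↓ _root_.reduceIte, _root_.mul_one]
  · -- `zz K` inverts `w`
    have hne : ¬ (zz K * c ^ 2 ^ n = c ^ 2 ^ n * zz K) := by
      intro h3
      rw [h3, mul_inv_cancel_right] at h1
      rw [← mul_eq_one_iff_eq_inv, l.w_sq] at h1
      exact l.gq.z_ne h1
    have hodd : ¬ Even b := by
      rintro ⟨b', hb'⟩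
      -- an element of order four of `L` commuting with `zz K`
      obtain ⟨k, hk⟩ : ∃ k, a = 4 * k + 3 := ⟨a / 4, by omega⟩
      obtain ⟨j, hj⟩ : ∃ j : ℕ, 2 ^ (n + 2) ∣ b + a * j + (2 ^ (n + 2) - 1) * j := by
        have hcop : Nat.Coprime (2 * k + 1) (2 ^ (n + 1)) :=
          Nat.Coprime.pow_right _ (by
            rw [Nat.coprime_comm]
            exact (Nat.Prime.coprime_iff_not_dvd Nat.prime_two).2 (by omega))
        obtain ⟨m, hm⟩ : ∃ m : ℕ, 2 ^ (n + 1) ∣ b' + (2 * k + 1) * m := by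
          obtain ⟨x, hx1, hx2⟩ := Nat.chineseRemainder hcop 0 ((2 ^ (n + 1) - 1) * b')
          obtain ⟨m, rfl⟩ := (Nat.modEq_zero_iff_dvd).mp hx1
          refine ⟨m, (Nat.modEq_zero_iff_dvd).mp ?_⟩
          have h3 := Nat.ModEq.add_left b' hx2
          have h4 : b' + (2 ^ (n + 1) - 1) * b' = 2 ^ (n + 1) * b' := by
            have : 1 ≤ 2 ^ (n + 1) := Nat.one_le_two_pow
            zify [this]; ring
          rw [h4] at h3
          exact h3.trans ((Nat.modEq_zero_iff_dvd).mpr (dvd_mul_right _ _))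
        refine ⟨m, ?_⟩
        have h3 : b + a * m + (2 ^ (n + 2) - 1) * m = 2 * (b' + (2 * k + 1) * m) + 2 ^ (n + 2) * m := by
          have : 1 ≤ 2 ^ (n + 2) := Nat.one_le_two_pow
          rw [hk, hb']
          zify [this]; ring
        rw [h3]
        refine Nat.dvd_add ?_ (dvd_mul_right _ _)
        rw [pow_succ' 2 (n + 1)]
        exact Nat.mul_dvd_mul_left 2 hm
      have hcj : c ^ (b + a * j) = c ^ j := by
        have h3 : c ^ (b + a * j + (2 ^ (n + 2) - 1) * j) = 1 := orderOf_dvd_iff_pow_eq_one.mp (by rw [l.gq.ord]; exact hj)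
        have h4 : c ^ j * c ^ ((2 ^ (n + 2) - 1) * j) = 1 := by
          rw [← pow_add]
          have h5 : j + (2 ^ (n + 2) - 1) * j = 2 ^ (n + 2) * j := by
            have : 1 ≤ 2 ^ (n + 2) := Nat.one_le_two_pow
            zify [this]; ring
          rw [h5, pow_mul, ← l.gq.ord, pow_orderOf_eq_one, one_pow]
        rw [pow_add] at h3
        exact mul_right_cancel (h3.trans h4.symm)
      have hqz : v * c ^ j * zz K = zz K * (v * c ^ j) := by
        have h3 : zz K * (v * c ^ j) * (zz K)⁻¹ = v * c ^ j := by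
          calc zz K * (v * c ^ j) * (zz K)⁻¹ = (zz K * v * (zz K)⁻¹) * (zz K * c ^ j * (zz K)⁻¹) := by group
            _ = v * c ^ (b + a * j) := by rw [hb, hcp, mul_assoc, ← pow_add]
            _ = _ := by rw [hcj]
        exact (mul_inv_eq_iff_eq_mul.mp h3).symm
      have hqm : v * c ^ j ∈ L ⊓ T := (L ⊓ T).mul_mem l.gq.v_mem ((L ⊓ T).pow_mem l.gq.c_mem j)
      have hq4 : orderOf (v * c ^ j) = 4 := l.gq.orderOf_out j
      have hqK : v * c ^ j ∈ normalizer (K : Set G) := h.norm_four hT hL hK hqm.1 hqm.2 hq4.ge hqz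
      obtain ⟨T₂, hT₂, hqT₂, -, hKT₂⟩ := exists_T hK (isPGroup_zpowers hT hqm.2) (zpowers_le.2 hqK)
      obtain ⟨c₂, v₂, n₂, ρ₂, l₂⟩ := exists_loc h hU hT₂ hKT₂
      have hs : c₂ ^ 2 ^ n₂ * zz L = zz L * c₂ ^ 2 ^ n₂ := by
        obtain ⟨_, _, _, _, hab₂⟩ := l₂.act h hU hT₂ hKT₂ (hqT₂ (mem_zpowers _)) hqK
        rw [← l.gq.sq_out j]
        exact sq_commute (hab₂.imp (fun h3 => h3.1) (fun h3 => h3.1))
      have hsK : c₂ ^ 2 ^ n₂ ∈ K := hU.le K hK l₂.w_mem
      have hsT : c₂ ^ 2 ^ n₂ ∈ T₂ := T₂.pow_mem l₂.gq.c_mem.2 _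
      have hsL : c₂ ^ 2 ^ n₂ ∈ normalizer (L : Set G) := h.norm_four hT₂ hK hL hsK hsT l₂.orderOf_w.ge hs
      have h6 := sq_act hU hL hsL l.w_mem l.orderOf_w
      rw [l₂.w_sq] at h6
      have h7 := eq_one_of_mem_odd hT (odd_OO L) (T.mul_mem (T.mul_mem (T.mul_mem hzT' hwT) (T.inv_mem hzT'))
        (T.inv_mem hwT)) h6
      rw [mul_inv_eq_one, mul_inv_eq_iff_eq_mul] at h7
      exact hne h7
    simp only [sg, hne, hodd, ↓ _root_.reduceIte, _root_.mul_neg, _root_.mul_one, _root_.neg_neg]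

/-- (2): the local sign of `y` at its own member -/
theorem local_self {K : Subgroup G} (hK : K ∈ Om) {y : G} (hy : y ∈ K) (hy4 : orderOf y = 4) (hyX : y ∉ XX U K) :
    ∃ t, Fr U K t ∧ dl U K (y * t.1 * y⁻¹, y * t.2 * y⁻¹) t = -1 := by
  have hyp : IsPGroup 2 (zpowers y) := by
    apply IsPGroup.of_card (n := 2)
    rw [Nat.card_zpowers, hy4]
    norm_num
  obtain ⟨T, hT, hyT, -, hKT⟩ := exists_T hK hyp (zpowers_le.2 (le_normalizer hy))
  have hyT' : y ∈ T := hyT (mem_zpowers _)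
  obtain ⟨c, v, n, ρ, l⟩ := exists_loc h hU hT hKT
  refine ⟨(c ^ 2 ^ n, v), ⟨l.w_mem, l.orderOf_w, l.gq.v_mem.1, v_not_mem_XX h hU hT hKT l.gq l.w_mem⟩, ?_⟩
  simp only
  obtain ⟨i, hi⟩ : ∃ i : ℕ, y = v * c ^ i := by
    rcases l.gq.cov y ⟨hy, hyT'⟩ with h1 | h1
    · exact absurd ((mem_XX_coord h hU hT hKT l.gq l.w_mem ⟨hy, hyT'⟩).mpr h1) hyX
    · exact h1
  have hb : y * v * y⁻¹ = v * c ^ (i + i) := by
    rw [hi, pow_add]
    have h1 : c ^ i * v = v * (c ^ i)⁻¹ := by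
      have := l.gq.conj_pow i
      calc c ^ i * v = c ^ i * (v * c ^ i) * (c ^ i)⁻¹ := by group
        _ = c ^ i * ((c ^ i)⁻¹ * v) * (c ^ i)⁻¹ := by rw [this]
        _ = v * (c ^ i)⁻¹ := by group
    calc v * c ^ i * v * (v * c ^ i)⁻¹ = v * (c ^ i * v) * (c ^ i)⁻¹ * v⁻¹ := by group
      _ = v * (v * (c ^ i)⁻¹) * (c ^ i)⁻¹ * v⁻¹ := by rw [h1]
      _ = v * (v * ((c ^ i)⁻¹ * (c ^ i)⁻¹) * v⁻¹) := by group
      _ = v * (c ^ i * c ^ i) := by
          have h2 : v * ((c ^ i)⁻¹ * (c ^ i)⁻¹) * v⁻¹ = c ^ i * c ^ i := by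
            have h3 : v * (c ^ i)⁻¹ * v⁻¹ = c ^ i := by
              have := l.gq.conj_pow i
              calc v * (c ^ i)⁻¹ * v⁻¹ = (v * c ^ i * v⁻¹)⁻¹ := by group
                _ = ((c ^ i)⁻¹ * v * v⁻¹)⁻¹ := by rw [this]
                _ = c ^ i := by group
            calc v * ((c ^ i)⁻¹ * (c ^ i)⁻¹) * v⁻¹ = (v * (c ^ i)⁻¹ * v⁻¹) * (v * (c ^ i)⁻¹ * v⁻¹) := by group
              _ = _ := by rw [h3]
          rw [h2]
  rw [dl_coord h hU hT hKT l hyT' hb]
  have hne : ¬ (y * c ^ 2 ^ n = c ^ 2 ^ n * y) := by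
    intro h1
    exact hyX ((mem_XX_T h hU hT hK l.w_mem (T.pow_mem l.gq.c_mem.2 _) l.orderOf_w hy hyT').mpr h1)
  have hev : Even (i + i) := ⟨i, rfl⟩
  simp only [sg, hne, hev, ↓ _root_.reduceIte, _root_.mul_one]

/-- (3): the local sign of `y` at the other members is one -/
theorem local_other {K L : Subgroup G} (hK : K ∈ Om) (hL : L ∈ Om) (hne : L ≠ K) {y : G} (hy : y ∈ K)
    (hy4 : orderOf y = 4) (hyX : y ∉ XX U K) (hyL : y ∈ normalizer (L : Set G)) :
    ∃ t, Fr U L t ∧ dl U L (y * t.1 * y⁻¹, y * t.2 * y⁻¹) t = 1 := by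
  have hyp : IsPGroup 2 (zpowers y) := by
    apply IsPGroup.of_card (n := 2)
    rw [Nat.card_zpowers, hy4]
    norm_num
  have hyy : y * y = zz K := h.sq_eq_zz hK hy hy4
  obtain ⟨T, hT, hyT, hTL, hLT⟩ := exists_T hL hyp (zpowers_le.2 hyL)
  have hyT' : y ∈ T := hyT (mem_zpowers _)
  obtain ⟨c, v, n, ρ, l⟩ := exists_loc h hU hT hLT
  obtain ⟨w, hw⟩ : ∃ w, w = c ^ 2 ^ n := ⟨_, rfl⟩
  have hwU : w ∈ U L := by rw [hw]; exact l.w_mem
  have hwL : w ∈ L := hU.le L hL hwU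
  have hwT : w ∈ T := by rw [hw]; exact T.pow_mem l.gq.c_mem.2 _
  have hw4 : orderOf w = 4 := by rw [hw]; exact l.orderOf_w
  have hww : w * w = zz L := hU.sq_eq h hL hwU hw4
  obtain ⟨_, _, _, _, hab⟩ := l.act h hU hT hLT hyT' hyL
  rw [← hw] at hab
  -- `y²` commutes with `w`
  have hzw : w * zz K = zz K * w := by
    rw [← hyy]
    exact sq_commute (hab.imp (fun h3 => h3.1) (fun h3 => h3.1))
  have hwK : w ∈ normalizer (K : Set G) := h.norm_four hT hL hK hwL hwT hw4.ge hzw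
  -- step A
  have hyw : y * w = w * y := by
    rcases hab with ⟨h3, -⟩ | ⟨h3, -⟩
    · exact h3
    · exfalso
      have h4 : w * y * w⁻¹ * y⁻¹ = zz L := by
        calc w * y * w⁻¹ * y⁻¹ = w * (y * w * y⁻¹)⁻¹ := by group
          _ = zz L := by rw [h3, inv_inv, hww]
      have h5 : zz L ∈ K := by
        rw [← h4]
        exact K.mul_mem ((mem_normalizer_iff.mp hwK y).mp hy) (K.inv_mem hy)
      have h6 : zz L = zz K := h.eq_zz hK h5 (h.zz_mul hL) (h.zz_ne hL)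
      have h7 := h.comm_of_zz_eq hT hK hL h6.symm (fun hh => hne hh.symm) hy hyT' hwL hwT
      rw [← h7, mul_inv_cancel_right, mul_inv_cancel] at h4
      exact h.zz_ne hL h4.symm
  -- step B
  obtain ⟨T₂, hT₂, hPT₂, hT₂K, hKT₂⟩ := exists_T (P := T ⊓ normalizer (K : Set G)) hK (hT.to_le inf_le_left) inf_le_right
  have hyT₂ : y ∈ T₂ := hPT₂ ⟨hyT', le_normalizer hy⟩
  have hwT₂ : w ∈ T₂ := hPT₂ ⟨hwT, hwK⟩
  obtain ⟨c₂, v₂, n₂, ρ₂, l₂⟩ := exists_loc h hU hT₂ hKT₂
  obtain ⟨s, hs⟩ : ∃ s, s = c₂ ^ 2 ^ n₂ := ⟨_, rfl⟩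
  have hsU : s ∈ U K := by rw [hs]; exact l₂.w_mem
  have hsK : s ∈ K := hU.le K hK hsU
  have hsT₂ : s ∈ T₂ := by rw [hs]; exact T₂.pow_mem l₂.gq.c_mem.2 _
  have hs4 : orderOf s = 4 := by rw [hs]; exact l₂.orderOf_w
  have hss : s * s = zz K := hU.sq_eq h hK hsU hs4
  have hsw : s * w = w * s := hU.commute h hT₂ hK hL hsU hwU hs4 hw4 hsT₂ hwT₂
  have hys : y * s * y⁻¹ = s⁻¹ := by
    obtain ⟨_, _, _, _, hab₂⟩ := l₂.act h hU hT₂ hKT₂ hyT₂ (le_normalizer hy)
    rw [← hs] at hab₂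
    rcases hab₂ with ⟨h3, -⟩ | ⟨h3, -⟩
    · exact absurd ((mem_XX_T h hU hT₂ hK hsU hsT₂ hs4 hy hyT₂).mpr h3) hyX
    · exact h3
  have hsz : s * zz L = zz L * s := by
    rw [← hww]
    have h3 : Commute s w := hsw
    exact (h3.mul_right h3).eq
  have hsL : s ∈ normalizer (L : Set G) := h.norm_four hT₂ hK hL hsK hsT₂ hs4.ge hsz
  -- step C
  obtain ⟨T₃, hT₃, hPT₃, hT₃L, hLT₃⟩ := exists_T (P := T₂ ⊓ normalizer (L : Set G)) hL (hT₂.to_le inf_le_left) inf_le_right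
  have hyT₃ : y ∈ T₃ := hPT₃ ⟨hyT₂, hyL⟩
  have hwT₃ : w ∈ T₃ := hPT₃ ⟨hwT₂, le_normalizer hwL⟩
  have hsT₃ : s ∈ T₃ := hPT₃ ⟨hsT₂, hsL⟩
  obtain ⟨c₃, v₃, n₃, ρ₃, l₃⟩ := exists_loc h hU hT₃ hLT₃
  have hw₃ : c₃ ^ 2 ^ n₃ = w ∨ c₃ ^ 2 ^ n₃ = w⁻¹ :=
    hU.eq_or hL hwU hw4 l₃.w_mem l₃.orderOf_w hT₃ hwT₃ (T₃.pow_mem l₃.gq.c_mem.2 _)
  have hyw₃ : y * c₃ ^ 2 ^ n₃ = c₃ ^ 2 ^ n₃ * y := by
    rcases hw₃ with h1 | h1
    · rw [h1]; exact hyw
    · rw [h1]; exact (Commute.inv_right hyw : Commute y w⁻¹).eq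
  have hsw₃ : s * c₃ ^ 2 ^ n₃ = c₃ ^ 2 ^ n₃ * s := by
    rcases hw₃ with h1 | h1
    · rw [h1]; exact hsw
    · rw [h1]; exact (Commute.inv_right hsw : Commute s w⁻¹).eq
  have hnotinv : ∀ g : G, g * c₃ ^ 2 ^ n₃ = c₃ ^ 2 ^ n₃ * g → g * c₃ ^ 2 ^ n₃ * g⁻¹ ≠ (c₃ ^ 2 ^ n₃)⁻¹ := by
    intro g hg h1
    rw [hg, mul_inv_cancel_right, ← mul_eq_one_iff_eq_inv, l₃.w_sq] at h1
    exact l₃.gq.z_ne h1
  obtain ⟨a, b, ha, hb, hab'⟩ := l₃.act h hU hT₃ hLT₃ hyT₃ hyL
  obtain ⟨a', b', ha', hb', hab''⟩ := l₃.act h hU hT₃ hLT₃ hsT₃ hsL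
  have ha1 : a % 4 = 1 := by
    rcases hab' with ⟨-, h1⟩ | ⟨h1, -⟩
    · exact h1
    · exact absurd h1 (hnotinv y hyw₃)
  have ha1' : a' % 4 = 1 := by
    rcases hab'' with ⟨-, h1⟩ | ⟨h1, -⟩
    · exact h1
    · exact absurd h1 (hnotinv s hsw₃)
  have hrel : y * s * y = s := by
    calc y * s * y = (y * s * y⁻¹) * (y * y) := by group
      _ = s⁻¹ * (s * s) := by rw [hys, hyy, hss]
      _ = s := by group
  have hcy : ∀ i : ℕ, y * c₃ ^ i * y⁻¹ = c₃ ^ (a * i) := fun i => by rw [← conj_pow, ha, pow_mul]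
  have hcs : ∀ i : ℕ, s * c₃ ^ i * s⁻¹ = c₃ ^ (a' * i) := fun i => by rw [← conj_pow, ha', pow_mul]
  have h1 : v₃ * c₃ ^ b' = v₃ * c₃ ^ (b + a * (b' + a' * b)) := by
    calc v₃ * c₃ ^ b' = s * v₃ * s⁻¹ := hb'.symm
      _ = (y * s * y) * v₃ * (y * s * y)⁻¹ := by rw [hrel]
      _ = y * (s * (y * v₃ * y⁻¹) * s⁻¹) * y⁻¹ := by group
      _ = y * (s * (v₃ * c₃ ^ b) * s⁻¹) * y⁻¹ := by rw [hb]
      _ = y * ((s * v₃ * s⁻¹) * (s * c₃ ^ b * s⁻¹)) * y⁻¹ := by group
      _ = y * (v₃ * c₃ ^ (b' + a' * b)) * y⁻¹ := by rw [hb', hcs, mul_assoc v₃, ← pow_add]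
      _ = (y * v₃ * y⁻¹) * (y * c₃ ^ (b' + a' * b) * y⁻¹) := by group
      _ = _ := by rw [hb, hcy, mul_assoc v₃, ← pow_add]
  have h2 := mul_left_cancel h1
  rw [pow_inj_mod, l₃.gq.ord] at h2
  have hd4 : (4 : ℕ) ∣ 2 ^ (n₃ + 2) := by
    rw [pow_add]
    exact dvd_mul_left _ _
  have h3 : b' % 4 = (b + a * (b' + a' * b)) % 4 := by
    rw [← Nat.mod_mod_of_dvd b' hd4, h2, Nat.mod_mod_of_dvd _ hd4]
  have hev : Even b := by
    obtain ⟨k, hk⟩ : ∃ k, a = 4 * k + 1 := ⟨a / 4, by omega⟩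
    obtain ⟨k', hk'⟩ : ∃ k', a' = 4 * k' + 1 := ⟨a' / 4, by omega⟩
    have h4 : b + a * (b' + a' * b) = 4 * (k * (b' + a' * b) + k' * b) + (2 * b + b') := by
      rw [hk, hk']; ring
    rw [h4] at h3
    rw [Nat.even_iff]
    omega
  refine ⟨(c₃ ^ 2 ^ n₃, v₃), ⟨l₃.w_mem, l₃.orderOf_w, l₃.gq.v_mem.1, v_not_mem_XX h hU hT₃ hLT₃ l₃.gq l₃.w_mem⟩, ?_⟩
  simp only
  rw [dl_coord h hU hT₃ hLT₃ l₃ hyT₃ hb]
  simp only [sg, hyw₃, hev, ↓ _root_.reduceIte, _root_.mul_one]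

/-- elements of order four outside `XX U K` -/
theorem exists_hom : ∃ f : G →* ℤˣ, ∀ K ∈ Om, ∀ y ∈ K, orderOf y = 4 → y ∉ XX U K → f y = -1 := by
  classical
  haveI : Fintype {L // L ∈ Om} := Fintype.ofFinite _
  refine ⟨(cover h hU).f, fun K hK y hy hy4 hyX => ?_⟩
  have hyy : y * y = zz K := h.sq_eq_zz hK hy hy4
  refine (cover h hU).f_eq (y := y) (by rw [hyy]; exact h.zz_mul hK) ?_ ⟨K, hK⟩ ?_ ?_ ?_
  · intro L hL
    have h1 : cj (y * y) L.1 = L.1 := congrArg Subtype.val hL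
    rw [← mem_normalizer_iff_cj, hyy] at h1
    rw [hyy]
    exact local_zz h hU hK L.2 h1
  · exact Subtype.ext (mem_normalizer_iff_cj.mp (le_normalizer hy))
  · exact local_self h hU hK hy hy4 hyX
  · intro L hne hL
    have h1 : cj y L.1 = L.1 := congrArg Subtype.val hL
    rw [← mem_normalizer_iff_cj] at h1
    exact local_other h hU hK L.2 (fun hh => hne (Subtype.ext hh)) hy hy4 hyX h1

/-- **Theorem TAU** -/
theorem tau : ∃ f : G →* ℤˣ, ∀ K ∈ Om, ∀ x ∈ K, f x = 1 ↔ x ∈ XX U K := by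
  obtain ⟨f, hf⟩ := exists_hom h hU
  have hodd : ∀ (N : Subgroup G), ¬ 2 ∣ Nat.card N → ∀ x ∈ N, f x = 1 := by
    intro N hN x hx
    rcases Int.units_eq_one_or (f x) with h1 | h1
    · exact h1
    · exfalso
      have h2 : x ^ Nat.card N = 1 := by
        have := pow_card_eq_one' (G := N) (x := ⟨x, hx⟩)
        exact congrArg Subtype.val this
      have h3 := congrArg f h2
      rw [map_pow, h1, map_one, Odd.neg_one_pow (by rwa [← Nat.not_even_iff_odd, even_iff_two_dvd])] at h3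
      exact absurd h3 (by decide)
  have hout : ∀ K ∈ Om, ∀ x ∈ K, x ∉ XX U K → f x = -1 := by
    intro K hK x hx hxX
    obtain ⟨T, hT, -, -, hKT⟩ := exists_T hK (P := ⊥) (IsPGroup.of_bot) bot_le
    obtain ⟨c, v, n, ρ, l⟩ := exists_loc h hU hT hKT
    obtain ⟨o, ho, t, ht, rfl⟩ := decomp h hU hT hKT hx
    have htX : t ∉ XX U K := fun hh => hxX ((XX U K).mul_mem (OO_le_XX K (hU.le K hK) ho) hh)
    have ht4 : orderOf t = 4 := by
      rcases l.gq.cov t ht with h1 | ⟨i, h1⟩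
      · exact absurd ((mem_XX_coord h hU hT hKT l.gq l.w_mem ht).mpr h1) htX
      · rw [h1]; exact l.gq.orderOf_out i
    rw [map_mul, hodd _ (odd_OO K) o ho, one_mul]
    exact hf K hK t ht.1 ht4 htX
  refine ⟨f, fun K hK x hx => ⟨fun h1 => ?_, fun h1 => ?_⟩⟩
  · by_contra h2
    rw [hout K hK x hx h2] at h1
    exact absurd h1 (by decide)
  · obtain ⟨T, hT, -, -, hKT⟩ := exists_T hK (P := ⊥) (IsPGroup.of_bot) bot_le
    obtain ⟨c, v, n, ρ, l⟩ := exists_loc h hU hT hKT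
    have hv := v_not_mem_XX h hU hT hKT l.gq l.w_mem
    have hvx : v * x ∉ XX U K := fun hh => hv (((XX U K).mul_mem_cancel_right h1).mp hh)
    have h3 := hout K hK _ (K.mul_mem l.gq.v_mem.1 hx) hvx
    rw [map_mul, hout K hK v l.gq.v_mem.1 hv] at h3
    exact (mul_eq_left.mp h3)

end

end Cfsg.Agent.Cit.TauMain
end

private theorem dce_293d65045d39 : _root_.True := by
  try have : _root_.True := by simp only [_root_.Cfsg.Agent.Cit.TauHom.Cover.c.eq_1]
  try have : _root_.True := by simp only [_root_.Cfsg.Agent.Cit.TauMain.sg.eq_1]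
  try have : _root_.True := by simp only [_root_.Cfsg.Agent.Cit.TauMain.dl.eq_1]
  exact _root_.True.intro
end

-- part: Omega/Lie/OutT
section
set_option linter.all false
open scoped Cfsg.Agent.FastGrp

/-!
# `A` is inner on the component `K` (TEXT LIE-1, bb OMEGA #12098, (T3))

`OutNil L`: a group `T` of odd order acts trivially, modulo inner automorphisms, on every elementary abelian 2-group
of automorphisms of `L` which it normalises.  Then in the situation `CompB.Pre` the group `A` acts on `K` as a subgroup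
of `K`, if `OutNil (K / Z(K))`.
-/

set_option autoImplicit false

namespace Cfsg.Agent.Omega.Lie.OutT

open Subgroup

/-! ### The configuration -/

/-- `X` of exponent two, `T` of odd order, `X = [X, T]` -/
structure Cfg {B : Type*} [Group B] (X T : Subgroup B) : Prop where
  sq : ∀ x ∈ X, x * x = 1
  odd : Odd (Nat.card T)
  nrm : ∀ t ∈ T, ∀ x ∈ X, t * x * t⁻¹ ∈ X
  gen : X ≤ closure {y | ∃ x ∈ X, ∃ t ∈ T, x⁻¹ * (t * x * t⁻¹) = y}

/-- `Out L` has no 2-section on which an odd group acts nontrivially -/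
def OutNil (L : Type*) [Group L] : Prop :=
  ∀ X T : Subgroup (MulAut L), (∀ x ∈ X, x * x = 1) → Odd (Nat.card T) →
    (∀ t ∈ T, ∀ x ∈ X, t * x * t⁻¹ ∈ X) →
    X ≤ closure {y | ∃ x ∈ X, ∃ t ∈ T, x⁻¹ * (t * x * t⁻¹) = y} →
    X ≤ (MulAut.conj : L →* MulAut L).range

theorem outNil_iff {L : Type*} [Group L] :
    OutNil L ↔ ∀ X T : Subgroup (MulAut L), Cfg X T → X ≤ (MulAut.conj : L →* MulAut L).range :=
  ⟨fun h X T c => h X T c.sq c.odd c.nrm c.gen, fun h X T h1 h2 h3 h4 => h X T ⟨h1, h2, h3, h4⟩⟩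

namespace Cfg

variable {B : Type*} [Group B] {X T : Subgroup B}

theorem inv_eq (c : Cfg X T) {x : B} (hx : x ∈ X) : x⁻¹ = x := inv_eq_of_mul_eq_one_left (c.sq x hx)

theorem comm (c : Cfg X T) {x y : B} (hx : x ∈ X) (hy : y ∈ X) : x * y = y * x := by
  have h1 := c.inv_eq (X.mul_mem hx hy)
  rw [mul_inv_rev, c.inv_eq hx, c.inv_eq hy] at h1
  exact h1.symm

/-- it is enough to look at the generators -/
theorem le_of (c : Cfg X T) {N : Subgroup B} (h : ∀ x ∈ X, ∀ t ∈ T, x⁻¹ * (t * x * t⁻¹) ∈ N) : X ≤ N := by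
  refine c.gen.trans ?_
  rw [closure_le]
  rintro _ ⟨x, hx, t, ht, rfl⟩
  exact h x hx t ht

/-- images of configurations -/
theorem map (c : Cfg X T) {C : Type*} [Group C] (f : B →* C) : Cfg (X.map f) (T.map f) where
  sq := by
    rintro _ ⟨x, hx, rfl⟩
    rw [← map_mul, c.sq x hx, map_one]
  odd := by
    have h1 : Nat.card (T.map f) ∣ Nat.card T := Subgroup.card_map_dvd T f
    exact Odd.of_dvd_nat c.odd h1
  nrm := by
    rintro _ ⟨t, ht, rfl⟩ _ ⟨x, hx, rfl⟩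
    rw [← map_inv, ← map_mul, ← map_mul]
    exact ⟨_, c.nrm t ht x hx, rfl⟩
  gen := by
    refine (Subgroup.map_mono c.gen).trans ?_
    rw [MonoidHom.map_closure, closure_le]
    rintro _ ⟨_, ⟨x, hx, t, ht, rfl⟩, rfl⟩
    refine subset_closure ⟨f x, ⟨x, hx, rfl⟩, f t, ⟨t, ht, rfl⟩, ?_⟩
    rw [map_mul, map_mul, map_mul, map_inv, map_inv]

/-- `X` has at most one nontrivial coset modulo `N` -/
theorem le_of_two (c : Cfg X T) {N : Subgroup B} (hN : ∀ t ∈ T, ∀ x ∈ X, t * x * t⁻¹ ∈ N → x ∈ N)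
    (h : ∀ x ∈ X, ∀ y ∈ X, x ∉ N → y ∉ N → x * y ∈ N) : X ≤ N := by
  refine c.le_of fun x hx t ht => ?_
  by_cases hxN : x ∈ N
  · refine N.mul_mem (N.inv_mem hxN) ?_
    refine hN t⁻¹ (T.inv_mem ht) _ (c.nrm t ht x hx) ?_
    have e : t⁻¹ * (t * x * t⁻¹) * t⁻¹⁻¹ = x := by group
    rwa [e]
  · rw [c.inv_eq hx]
    exact h x hx _ (c.nrm t ht x hx) hxN fun h1 => hxN (hN t ht x hx h1)

/-- the same for a normal subgroup -/
theorem le_of_two' (c : Cfg X T) {N : Subgroup B} [hn : N.Normal]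
    (h : ∀ x ∈ X, ∀ y ∈ X, x ∉ N → y ∉ N → x * y ∈ N) : X ≤ N := by
  refine c.le_of_two (fun t _ x _ hx => ?_) h
  have := hn.conj_mem _ hx t⁻¹
  have e : t⁻¹ * (t * x * t⁻¹) * t⁻¹⁻¹ = x := by group
  rwa [e] at this

/-- a subgroup of index at most two contains `X` -/
theorem le_of_index_two (c : Cfg X T) {N : Subgroup B} (hi : N.index = 1 ∨ N.index = 2) : X ≤ N := by
  rcases hi with hi | hi
  · rw [index_eq_one.1 hi]; exact le_top
  · have hn : N.Normal := normal_of_index_eq_two hi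
    exact c.le_of_two' fun x _ y _ hx hy => (mul_mem_iff_of_index_two hi).2 (by simp [hx, hy])

/-- a subgroup of index at most two contains `T` -/
theorem T_le_of_index_two (c : Cfg X T) {N : Subgroup B} (hi : N.index = 1 ∨ N.index = 2) : T ≤ N := by
  rcases hi with hi | hi
  · rw [index_eq_one.1 hi]; exact le_top
  · intro t ht
    have h1 : t ^ 2 ∈ N := by
      rw [pow_two]; exact (mul_mem_iff_of_index_two hi).2 Iff.rfl
    have h2 : t ^ Nat.card T = 1 := by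
      have h3 : (⟨t, ht⟩ : T) ^ Nat.card T = 1 := pow_card_eq_one'
      exact congrArg Subtype.val h3
    obtain ⟨r, hr⟩ := c.odd
    rw [hr, pow_succ, pow_mul] at h2
    have h3 : t = ((t ^ 2) ^ r)⁻¹ := eq_inv_of_mul_eq_one_right h2
    rw [h3]
    exact N.inv_mem (N.pow_mem h1 r)

/-- an element of `X` some odd power of which is in `N` -/
theorem mem_of_pow (c : Cfg X T) {N : Subgroup B} {x : B} (hx : x ∈ X) {k : ℕ} (hk : Odd k) (h : x ^ k ∈ N) :
    x ∈ N := by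
  obtain ⟨r, hr⟩ := hk
  have : x ^ k = x := by
    rw [hr, pow_succ, pow_mul, pow_two, c.sq x hx, one_pow, one_mul]
  rwa [this] at h

/-- commuting involutions of `S₃` are equal -/
theorem perm_three : ∀ x y : Equiv.Perm (Fin 3), x * x = 1 → y * y = 1 → x * y = y * x → x ≠ 1 → y ≠ 1 →
    x * y = 1 := by decide

/-- actions on at most three points -/
theorem apply_perm_eq_one (c : Cfg X T) {α : Type*} [Finite α] (hα : Nat.card α ≤ 3) (f : B →* Equiv.Perm α)
    {x : B} (hx : x ∈ X) : f x = 1 := by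
  have := Fintype.ofFinite α
  rw [Nat.card_eq_fintype_card] at hα
  -- an embedding of `Perm α` in `Perm (Fin 3)`
  obtain ⟨e⟩ : Nonempty (α ↪ Fin 3) := by
    rw [Function.Embedding.nonempty_iff_card_le]
    simpa using hα
  classical
  let g : Equiv.Perm α →* Equiv.Perm (Fin 3) := Equiv.Perm.viaEmbeddingHom e
  have hg : Function.Injective g := Equiv.Perm.viaEmbeddingHom_injective e
  let F : B →* Equiv.Perm (Fin 3) := g.comp f
  have h1 : X ≤ F.ker := by
    refine c.le_of_two' fun x hx y hy h1 h2 => ?_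
    rw [MonoidHom.mem_ker] at h1 h2 ⊢
    rw [map_mul]
    refine perm_three _ _ ?_ ?_ ?_ h1 h2
    · rw [← map_mul, c.sq x hx, map_one]
    · rw [← map_mul, c.sq y hy, map_one]
    · rw [← map_mul, ← map_mul, c.comm hx hy]
  have h2 : F x = 1 := h1 hx
  apply hg
  rw [map_one]
  exact h2

end Cfg

/-! ### Transfer -/

theorem OutNil.of_equiv {K L : Type*} [Group K] [Group L] (e : K ≃* L) (h : OutNil K) : OutNil L := by
  rw [outNil_iff] at h ⊢
  intro X T c φ hφ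
  let E : MulAut L ≃* MulAut K := MulAut.congr e.symm
  have h1 := h _ _ (c.map E.toMonoidHom)
  have h2 : E φ ∈ (MulAut.conj : K →* MulAut K).range := h1 ⟨φ, hφ, rfl⟩
  obtain ⟨k, hk⟩ := h2
  refine ⟨e k, ?_⟩
  ext x
  have h3 := DFunLike.congr_fun hk (e.symm x)
  have h4 : (E φ) (e.symm x) = e.symm (φ x) := by
    simp [E, MulAut.congr]
  rw [h4, MulAut.conj_apply] at h3
  rw [MulAut.conj_apply]
  have h5 := congrArg e h3
  simpa using h5

/-- The main criterion: `R` of index at most two, commutators of `R` have inner odd powers. -/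
theorem outNil_of_index_two {L : Type*} [Group L] (R : Subgroup (MulAut L)) (hi : R.index = 1 ∨ R.index = 2)
    (D : Subgroup (MulAut L)) (hD : ∀ x ∈ R, ∀ t ∈ R, x⁻¹ * (t * x * t⁻¹) ∈ D)
    (h : ∀ φ ∈ D, φ * φ = 1 → ∃ k : ℕ, Odd k ∧ φ ^ k ∈ (MulAut.conj : L →* MulAut L).range) : OutNil L := by
  rw [outNil_iff]
  intro X T c x hx
  have h1 := c.le_of_index_two hi
  have h2 := c.T_le_of_index_two hi
  have h3 : X ≤ D := c.le_of fun x hx t ht => hD x (h1 hx) t (h2 ht)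
  obtain ⟨k, hk, h4⟩ := h x (h3 hx) (c.sq x hx)
  exact c.mem_of_pow hx hk h4

/-! ### Components -/

open Cfsg.Agent.Schreier.Balance

/-- An automorphism of a perfect group which is inner on the central quotient is inner. -/
theorem inner_of_quo {L : Type*} [Group L] (hL : Group.IsPerfect L) {φ : MulAut L}
    (h : quoAut L φ ∈ (MulAut.conj : L ⧸ center L →* MulAut (L ⧸ center L)).range) :
    φ ∈ (MulAut.conj : L →* MulAut L).range := by
  obtain ⟨k, hk⟩ := h
  obtain ⟨l, rfl⟩ := QuotientGroup.mk_surjective k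
  refine ⟨l, ?_⟩
  apply quoAut_injective hL
  rw [← hk]
  apply MulEquiv.ext
  intro x
  obtain ⟨y, rfl⟩ := QuotientGroup.mk_surjective x
  rw [quoAut_mk, MulAut.conj_apply, MulAut.conj_apply, ← QuotientGroup.mk_inv, ← QuotientGroup.mk_mul,
    ← QuotientGroup.mk_mul]

theorem OutNil.lift {L : Type*} [Group L] (hL : Group.IsPerfect L) (h : OutNil (L ⧸ center L)) : OutNil L := by
  rw [outNil_iff] at h ⊢
  intro X T c x hx
  exact inner_of_quo hL (h _ _ (c.map (quoAut L)) ⟨x, hx, rfl⟩)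

variable {H : Type*} [Group H]

/-- **`A` is inner on `K`.** -/
theorem inner_of {S A T K : Subgroup H} (h : CompB.Pre S A T K) (hT : Odd (Nat.card T)) (hL : OutNil K) :
    ∀ a ∈ A, ∃ k ∈ K, CompB.Acts K a k := by
  have hAN : A ≤ normalizer (K : Set H) := by
    intro a ha
    rw [mem_normalizer_iff]
    refine fun x => ⟨h.AK a ha x, fun hx => ?_⟩
    have := h.AK a⁻¹ (A.inv_mem ha) _ hx
    have e : a⁻¹ * (a * x * a⁻¹) * a⁻¹⁻¹ = x := by group
    rwa [e] at this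
  have hTN : T ≤ normalizer (K : Set H) := by
    intro t ht
    rw [mem_normalizer_iff]
    exact fun x => (h.TK_iff ht).symm
  let ρ := K.normalizerMonoidHom
  have c0 : Cfg (A.subgroupOf (normalizer (K : Set H))) (T.subgroupOf (normalizer (K : Set H))) :=
    { sq := fun x hx => Subtype.ext (h.A2 _ hx)
      odd := by
        have e : Nat.card (T.subgroupOf (normalizer (K : Set H))) = Nat.card T :=
          Nat.card_congr (subgroupOfEquivOfLe hTN).toEquiv
        rw [e]; exact hT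
      nrm := fun t ht x hx => h.TA _ ht _ hx
      gen := by
        have e1 : (closure {y : normalizer (K : Set H) | ∃ x ∈ A.subgroupOf (normalizer (K : Set H)),
            ∃ t ∈ T.subgroupOf (normalizer (K : Set H)), x⁻¹ * (t * x * t⁻¹) = y}).map
              (normalizer (K : Set H)).subtype =
            closure {g | ∃ a ∈ A, ∃ t ∈ T, a⁻¹ * (t * a * t⁻¹) = g} := by
          rw [MonoidHom.map_closure]
          congr 1
          ext g
          constructor
          · rintro ⟨_, ⟨x, hx, t, ht, rfl⟩, rfl⟩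
            exact ⟨x.1, hx, t.1, ht, rfl⟩
          · rintro ⟨a, ha, t, ht, rfl⟩
            exact ⟨_, ⟨⟨a, hAN ha⟩, ha, ⟨t, hTN ht⟩, ht, rfl⟩, rfl⟩
        intro x hx
        have h1 := h.AT hx
        rw [← e1] at h1
        obtain ⟨y, hy, hyx⟩ := h1
        have : y = x := Subtype.ext hyx
        rwa [this] at hy }
  rw [outNil_iff] at hL
  have h1 := hL _ _ (c0.map ρ)
  intro a ha
  obtain ⟨k, hk⟩ := h1 ⟨⟨a, hAN ha⟩, ha, rfl⟩
  refine ⟨k.1, k.2, fun x hx => ?_⟩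
  have h2 := DFunLike.congr_fun hk ⟨x, hx⟩
  have h3 := congrArg Subtype.val h2
  exact h3.symm

/-- **`A` is inner on the component `K`.** -/
theorem inner {S A T K : Subgroup H} (h : CompB.Pre S A T K) (hT : Odd (Nat.card T)) (hK : Cfsg.IsQuasisimple K)
    (hL : OutNil (K ⧸ center K)) : ∀ a ∈ A, ∃ k ∈ K, CompB.Acts K a k :=
  inner_of h hT (hL.lift hK.1)

theorem hyp {S A T K : Subgroup H} (h : CompB.Pre S A T K) (hT : Odd (Nat.card T)) (hK : Cfsg.IsComponent K)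
    (hL : OutNil (K ⧸ center K)) : CompB.Hyp S A T K :=
  { toPre := h, inner := inner h hT hK.2 hL }

end Cfsg.Agent.Omega.Lie.OutT
end

-- part: OddHalf/Table/OutSpSix
section
set_option linter.all false
open scoped Cfsg.Agent.FastGrp

/-!
# TABLE-17, the row `Sp6(2)`: every automorphism of `Sp_2m(2)`, `m ≥ 3`, is inner
-/

set_option autoImplicit false

namespace Cfsg.Agent.OddHalf.Table.OutSpSix

open Cfsg Cfsg.Agent.Schreier.ClassPSp
open Cfsg.Agent.ClassicalGeometry.SympAutSemi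

variable {m : ℕ} {F : Type*} [Field F]

theorem eq_one_of_card (hF : Nat.card F = 2) (x : F) (hx : x ≠ 0) : x = 1 := by
  have hfin : Finite F := Nat.finite_of_card_ne_zero (by rw [hF]; decide)
  by_contra h
  classical
  have := Fintype.ofFinite F
  have h1 : ({0, 1, x} : Finset F).card ≤ 2 := by
    rw [← hF, Nat.card_eq_fintype_card]
    exact Finset.card_le_univ _
  rw [Finset.card_insert_of_notMem, Finset.card_insert_of_notMem, Finset.card_singleton] at h1
  · omega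
  · simpa using fun h2 => h h2.symm
  · simp only [Finset.mem_insert, Finset.mem_singleton, not_or]
    exact ⟨zero_ne_one, fun h2 => hx h2.symm⟩

theorem ringEquiv_eq_refl (hF : Nat.card F = 2) (φ : F ≃+* F) : φ = RingEquiv.refl F := by
  ext x
  by_cases hx : x = 0
  · rw [hx, map_zero, map_zero]
  · have h1 : φ x ≠ 0 := by simpa using hx
    rw [eq_one_of_card hF _ h1]
    exact (eq_one_of_card hF _ hx).symm

theorem inner (hm : 3 ≤ m) (hF : Nat.card F = 2) (α : MulAut (PSp m F)) :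
    ∃ x : PSp m F, α = MulAut.conj x := by
  have hfin : Finite F := Nat.finite_of_card_ne_zero (by rw [hF]; decide)
  obtain ⟨g, hg⟩ := Cfsg.Agent.ClassicalGeometry.SympAutExists.exists_semi (by omega : 2 ≤ m) α
    (Cfsg.Agent.ClassicalGeometry.SympAutOddA.recog (by omega) (Or.inl hm) α)
  have h1 : g ∈ isom m F := by
    obtain ⟨φ, l, hl, h2⟩ := g.2
    rw [ringEquiv_eq_refl hF φ, eq_one_of_card hF l hl] at h2
    exact h2
  obtain ⟨x, hx⟩ := Psi_isom h1
  exact ⟨x, by rw [hx, hg]⟩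

/-- The row `Sp_2m(2)`, `m ≥ 3`. -/
theorem outSign_Sp (hm : 3 ≤ m) (hF : Nat.card F = 2) {X' : Type*} [Group X'] (e : X' ≃* PSp m F) :
    OutSign X' :=
  (OutSign.of_forall_inner (inner hm hF)).of_equiv e.symm

/-- The row `Sp6(2)`. -/
theorem outSign_Sp6 (hF : Nat.card F = 2) {X' : Type*} [Group X'] (e : X' ≃* PSp 3 F) : OutSign X' :=
  outSign_Sp le_rfl hF e

end Cfsg.Agent.OddHalf.Table.OutSpSix
end

-- part: Cit/NilComp
section
set_option linter.all false
open scoped Cfsg.Agent.FastGrp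

/-!
# LEMMA 1 and LEMMA B' (helper545) for a member `K` of `Om` which is a 2-group

`HYP(G, Om)`, `K ∈ Om` a 2-group, `z = zz K`.

* `Hyp.comm_of_not_mem` : `K` normalises `N`, `z ∉ N`: the elements of `N` commuting with `z` commute with `K`;
* `Hyp.lemma_one` : `K` normalises the 2-group `N`, `z ∉ N`: `K` centralises `N`;
* `Hyp.lemma_two` (LEMMA B') : `K` normalises `M`, `O(M) = 1`, `z ∉ M`: `z` centralises `M`;
* `Hyp.comm_of_zz_comm` : if `zz L` commutes with all elements of the 2-group `K ∈ Om`, then `K = L` or `K` and `L`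
  commute (`L` a 2-group).
-/

set_option autoImplicit false
set_option linter.style.haveILetI false

namespace Cfsg.Agent.Cit

open Subgroup Cfsg

variable {G : Type*} [Group G]

theorem syl_self {K : Subgroup G} (h2 : IsPGroup 2 K) : Syl K K :=
  ⟨le_rfl, h2, by rw [relIndex_self]; omega⟩

theorem OO_eq_bot_of_two [Finite G] {K : Subgroup G} (h2 : IsPGroup 2 K) : OO K = ⊥ := by
  rw [eq_bot_iff]
  intro x hx
  exact eq_one_of_mem_odd h2 (odd_OO K) (OO_le K hx) hx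

namespace Hyp

variable [Finite G] {Om : Set (Subgroup G)} {K L N M : Subgroup G}

/-- `zz K` is a commutator of `K` -/
theorem exists_comm_eq (h : Hyp Om) (hK : K ∈ Om) (h2 : IsPGroup 2 K) :
    ∃ v ∈ K, ∃ c ∈ K, v * c * v⁻¹ * c⁻¹ = zz K := by
  obtain ⟨c, v, n, hgq⟩ := h.exists_gq hK (syl_self h2)
  obtain ⟨y, hy, -, hyv⟩ := hgq.exists_inverting hgq.v_mem hgq.orderOf_v
  refine ⟨y, hy, v, hgq.v_mem, ?_⟩
  rw [hyv, ← mul_inv_rev, hgq.v_sq, hgq.z_inv]

/-- a member is not commutative modulo a subgroup without `zz K` -/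
theorem exists_comm_not_mem (h : Hyp Om) (hK : K ∈ Om) (h2 : IsPGroup 2 K) (hz : zz K ∉ N) :
    ∃ v ∈ K, ∃ c ∈ K, v * c * v⁻¹ * c⁻¹ ∉ N := by
  obtain ⟨v, hv, c, hc, hvc⟩ := h.exists_comm_eq hK h2
  exact ⟨v, hv, c, hc, by rwa [hvc]⟩

omit [Finite G] in
/-- `K ⊓ N` is trivial if `zz K ∉ N` -/
theorem eq_one_of_mem (h : Hyp Om) (hK : K ∈ Om) (h2 : IsPGroup 2 K) (hz : zz K ∉ N) {x : G} (hx : x ∈ K)
    (hxN : x ∈ N) : x = 1 := by
  haveI : Fact (Nat.Prime 2) := ⟨Nat.prime_two⟩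
  by_contra hx1
  obtain ⟨k, hk⟩ := h2 ⟨x, hx⟩
  have hk' : x ^ 2 ^ k = 1 := congrArg Subtype.val hk
  -- minimal `k`
  obtain ⟨k, hk, hmin⟩ : ∃ k, x ^ 2 ^ k = 1 ∧ ∀ j < k, x ^ 2 ^ j ≠ 1 := by
    classical
    have hex : ∃ k, x ^ 2 ^ k = 1 := ⟨k, hk'⟩
    exact ⟨Nat.find hex, Nat.find_spec hex, fun j hj => Nat.find_min hex hj⟩
  have hk0 : k ≠ 0 := by
    rintro rfl
    apply hx1
    simpa using hk
  obtain ⟨j, rfl⟩ : ∃ j, k = j + 1 := ⟨k - 1, by omega⟩
  have h3 := hmin j (by omega)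
  have h4 : x ^ 2 ^ j * x ^ 2 ^ j = 1 := by
    rw [← pow_add, ← two_mul, ← pow_succ', hk]
  have h5 := h.eq_zz hK (K.pow_mem hx _) h4 h3
  exact hz (h5 ▸ N.pow_mem hxN _)

/-- the elements of `N` commuting with `zz K` commute with `K` -/
theorem comm_of_not_mem (h : Hyp Om) (hK : K ∈ Om) (h2 : IsPGroup 2 K) (hN : K ≤ normalizer (N : Set G))
    (hz : zz K ∉ N) {c : G} (hc : c ∈ N) (hcz : c * zz K = zz K * c) : ∀ k ∈ K, k * c = c * k := by
  -- `c` normalises `K`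
  have hcK : cj c K = K := by
    by_contra hne
    have h3 : zz (cj c K) = zz K := by rw [h.zz_cj hK, hcz, mul_inv_cancel_right]
    rcases h.h2 _ (h.conj K hK c) _ hK h3 with h4 | h4
    · exact hne h4
    rw [OO_eq_bot_of_two h2, inf_bot_eq, le_bot_iff, Subgroup.commutator_eq_bot_iff_le_centralizer] at h4
    obtain ⟨a, ha, b, hb, hab⟩ := h.exists_comm_not_mem hK h2 hz
    apply hab
    -- `c a c⁻¹` commutes with `b`, and `c a c⁻¹ = a n`
    have h5 := mem_centralizer_iff.1 (h4 (conj_mem_cj (g := c) ha)) b hb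
    have h6 : a⁻¹ * (c * a * c⁻¹) ∈ N := by
      have h7 := (mem_normalizer_iff.1 (hN (K.inv_mem ha)) c).1 hc
      have h8 : a⁻¹ * (c * a * c⁻¹) = a⁻¹ * c * a⁻¹⁻¹ * c⁻¹ := by group
      rw [h8]
      exact N.mul_mem h7 (N.inv_mem hc)
    set n := a⁻¹ * (c * a * c⁻¹) with hn
    have h9 : c * a * c⁻¹ = a * n := by rw [hn]; group
    rw [h9] at h5
    -- `b a n = a n b`
    have h10 : a * b * a⁻¹ * b⁻¹ = a * (b * n * b⁻¹ * n⁻¹) * a⁻¹ := by
      have h11 : b * a = a * n * b * n⁻¹ := by rw [← h5]; group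
      have h12 : a * b * a⁻¹ * b⁻¹ = a * b * (b * a)⁻¹ := by group
      rw [h12, h11]; group
    rw [h10]
    refine (mem_normalizer_iff.1 (hN ha) _).1 (N.mul_mem ((mem_normalizer_iff.1 (hN hb) _).1 h6) (N.inv_mem h6))
  intro k hk
  have h3 : k * c * k⁻¹ * c⁻¹ ∈ N :=
    N.mul_mem ((mem_normalizer_iff.1 (hN hk) c).1 hc) (N.inv_mem hc)
  have h4 : k * c * k⁻¹ * c⁻¹ ∈ K := by
    have h5 := conj_mem_cj (g := c) (K.inv_mem hk)
    rw [hcK] at h5
    have h6 := K.mul_mem hk h5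
    have h7 : k * (c * k⁻¹ * c⁻¹) = k * c * k⁻¹ * c⁻¹ := by group
    rwa [h7] at h6
  have h5 := h.eq_one_of_mem hK h2 hz h4 h3
  rwa [mul_inv_eq_one, mul_inv_eq_iff_eq_mul] at h5

/-- **LEMMA 1** -/
theorem lemma_one (h : Hyp Om) (hK : K ∈ Om) (h2 : IsPGroup 2 K) (hN2 : IsPGroup 2 N)
    (hN : K ≤ normalizer (N : Set G)) (hz : zz K ∉ N) : ∀ k ∈ K, ∀ n ∈ N, k * n = n * k := by
  have hC := fun {c : G} (hc : c ∈ N) => h.comm_of_not_mem hK h2 hN hz hc
  set C := N ⊓ centralizer {zz K} with hCdef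
  have hCK : ∀ c ∈ C, ∀ k ∈ K, k * c = c * k := fun c hc =>
    hC hc.1 (mem_centralizer_singleton_iff.1 hc.2)
  by_cases hCN : C = N
  · intro k hk n hn
    rw [← hCN] at hn
    exact hCK n hn k hk
  exfalso
  have hKC : K ≤ normalizer (C : Set G) := by
    intro k hk
    rw [mem_normalizer_iff]
    intro x
    constructor
    · intro hx
      rw [hCK x hx k hk, mul_inv_cancel_right]; exact hx
    · intro hx
      have h3 := hCK _ hx k⁻¹ (K.inv_mem hk)
      have h4 : x = k⁻¹ * (k * x * k⁻¹) * k := by group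
      rw [h4, h3, inv_mul_cancel_right]
      exact hx
  have hT : IsPGroup 2 (N ⊔ K : Subgroup G) := by
    haveI : Fact (Nat.Prime 2) := ⟨Nat.prime_two⟩
    have := IsPGroup.to_sup_of_normal_left' hN2 h2 hN
    exact this
  have hT₀ : ∀ x ∈ (C ⊔ K : Subgroup G), x ∈ N → x ∈ C := by
    intro x hx hxN
    obtain ⟨c, hc, k, hk, rfl⟩ := LB.exists_mul_of_mem_sup hKC hx
    have h3 : k ∈ N := by
      have := N.mul_mem (N.inv_mem hc.1) hxN
      simpa using this
    rw [h.eq_one_of_mem hK h2 hz hk h3, mul_one]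
    exact hc
  obtain ⟨t, ht, htn, htT⟩ := LB.exists_normalizing hT (sup_le_sup_right (inf_le_left : C ≤ N) K) (by
    intro h3
    apply hCN
    refine le_antisymm inf_le_left fun x hx => hT₀ x ?_ hx
    rw [h3]
    exact (le_sup_left : N ≤ N ⊔ K) hx)
  obtain ⟨a, ha, b, hb, rfl⟩ := LB.exists_mul_of_mem_sup hN ht
  have hbT : b ∈ C ⊔ K := (le_sup_right : K ≤ C ⊔ K) hb
  have haT : cj a (C ⊔ K) = C ⊔ K := by
    rw [cj_mul, mem_normalizer_iff_cj.1 (le_normalizer hbT)] at htT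
    exact htT
  have han : a ∉ C ⊔ K := fun h3 => htn ((C ⊔ K).mul_mem h3 hbT)
  -- `μ q = q⁻¹ (a q a⁻¹)`
  have hμ : ∀ q ∈ K, q⁻¹ * (a * q * a⁻¹) ∈ C := by
    intro q hq
    apply hT₀
    · refine (C ⊔ K).mul_mem ((le_sup_right : K ≤ C ⊔ K) (K.inv_mem hq)) ?_
      have h3 := conj_mem_cj (g := a) ((le_sup_right : K ≤ C ⊔ K) hq)
      rwa [haT] at h3
    · have h3 := (mem_normalizer_iff.1 (hN (K.inv_mem hq)) a).1 ha
      have h4 : q⁻¹ * (a * q * a⁻¹) = q⁻¹ * a * q⁻¹⁻¹ * a⁻¹ := by group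
      rw [h4]
      exact N.mul_mem h3 (N.inv_mem ha)
  have hμm : ∀ p ∈ K, ∀ q ∈ K, (p * q)⁻¹ * (a * (p * q) * a⁻¹) =
      (p⁻¹ * (a * p * a⁻¹)) * (q⁻¹ * (a * q * a⁻¹)) := by
    intro p hp q hq
    have h3 := hCK _ (hμ p hp) q⁻¹ (K.inv_mem hq)
    calc (p * q)⁻¹ * (a * (p * q) * a⁻¹) = (q⁻¹ * (p⁻¹ * (a * p * a⁻¹))) * (a * q * a⁻¹) := by group
      _ = ((p⁻¹ * (a * p * a⁻¹)) * q⁻¹) * (a * q * a⁻¹) := by rw [h3]
      _ = _ := by group
  -- `a` normalises `C`
  have haC : ∀ x ∈ C, a⁻¹ * x * a ∈ C := by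
    intro x hx
    apply hT₀
    · have h3 : cj a⁻¹ (C ⊔ K) = C ⊔ K := by
        conv_lhs => rw [← haT]
        exact cj_inv_cj _ _
      have h4 := conj_mem_cj (g := a⁻¹) ((le_sup_left : C ≤ C ⊔ K) hx)
      rwa [h3, inv_inv] at h4
    · exact N.mul_mem (N.mul_mem (N.inv_mem ha) hx.1) ha
  have hμc : ∀ q ∈ K, ∀ x ∈ C, (q⁻¹ * (a * q * a⁻¹)) * x = x * (q⁻¹ * (a * q * a⁻¹)) := by
    intro q hq x hx
    have h3 := hCK _ (haC x hx) q hq
    have h4 := hCK x hx q⁻¹ (K.inv_mem hq)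
    calc (q⁻¹ * (a * q * a⁻¹)) * x = q⁻¹ * (a * (q * (a⁻¹ * x * a)) * a⁻¹) := by group
      _ = q⁻¹ * (a * ((a⁻¹ * x * a) * q) * a⁻¹) := by rw [h3]
      _ = (q⁻¹ * x) * (a * q * a⁻¹) := by group
      _ = (x * q⁻¹) * (a * q * a⁻¹) := by rw [h4]
      _ = _ := by group
  obtain ⟨v, hv, c, hc, hvc⟩ := h.exists_comm_eq hK h2
  -- `μ z = 1`
  have hone : (1 : G)⁻¹ * (a * 1 * a⁻¹) = 1 := by group
  have hzμ : (zz K)⁻¹ * (a * zz K * a⁻¹) = 1 := by
    have h3 : zz K * (c * v) = v * c := by rw [← hvc]; group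
    have h4 := hμm (zz K) (h.zz_mem hK) (c * v) (K.mul_mem hc hv)
    rw [h3, hμm v hv c hc, hμm c hc v hv, hμc v hv _ (hμ c hc)] at h4
    exact (mul_eq_right.1 h4.symm)
  apply han
  rw [inv_mul_eq_one, eq_mul_inv_iff_mul_eq] at hzμ
  exact (le_sup_left : C ≤ C ⊔ K) ⟨ha, mem_centralizer_singleton_iff.2 hzμ.symm⟩

/-- **LEMMA B'** -/
theorem lemma_two (h : Hyp Om) (h2 : ∀ L ∈ Om, IsPGroup 2 L) (hK : K ∈ Om)
    (hM : K ≤ normalizer (M : Set G)) (hO : OO M = ⊥) (hz : zz K ∉ M) : M ≤ centralizer {zz K} := by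
  haveI : Fact (Nat.Prime 2) := ⟨Nat.prime_two⟩
  by_contra hcen
  have hzK : ∀ k ∈ K, k * zz K = zz K * k := fun k hk => h.comm_zz hK (le_normalizer hk)
  have hzQ := h.zz_mem hK
  set z := zz K with hzdef
  have hMQ : M ⊔ K ≤ normalizer (M : Set G) := sup_le le_normalizer hM
  obtain ⟨S, hS, hKS⟩ := LB.exists_syl_ge (h2 K hK) (le_sup_right : K ≤ M ⊔ K)
  have hT : Syl (S ⊓ M) M := LB.syl_inf_normal hS le_sup_left hMQ
  set T := S ⊓ M with hTdef
  have hKT : K ≤ normalizer (T : Set G) := by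
    intro k hk
    rw [mem_normalizer_iff_cj, hTdef, cj_inf, mem_normalizer_iff_cj.1 (le_normalizer (hKS hk)),
      mem_normalizer_iff_cj.1 (hM hk)]
  have hQT := h.lemma_one hK (h2 K hK) hT.2.1 hKT (fun h3 => hz h3.2)
  obtain ⟨g, hgMQ, hgS, hgz⟩ : ∃ g ∈ M ⊔ K, g * z * g⁻¹ ∈ S ∧ g * z * g⁻¹ ≠ z := by
    by_contra hcon
    push Not at hcon
    obtain ⟨P, hP⟩ := hS.exists_sylow
    have hzMQ : z ∈ M ⊔ K := (le_sup_right : K ≤ M ⊔ K) hzQ
    obtain ⟨N, hN, hNodd, hNz⟩ := Cfsg.Agent.S0215.result P (⟨z, hzMQ⟩ : (M ⊔ K : Subgroup G))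
      (by rw [Subgroup.orderOf_mk]; exact h.orderOf_zz hK)
      (by
        have : (⟨z, hzMQ⟩ : (M ⊔ K : Subgroup G)) ∈ (P : Subgroup _) := by
          rw [hP]; exact hKS hzQ
        exact this)
      (by
        rintro ⟨g, hg⟩ hgP
        have h3 : g * z * g⁻¹ ∈ S := by
          have h4 : (⟨g, hg⟩ : (M ⊔ K : Subgroup G)) * ⟨z, hzMQ⟩ * (⟨g, hg⟩ : (M ⊔ K : Subgroup G))⁻¹ ∈
              (P : Subgroup _) := hgP
          rw [hP] at h4
          exact h4
        exact Subtype.ext (hcon g hg h3))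
    apply hcen
    intro m hm
    rw [mem_centralizer_singleton_iff]
    have hmMQ : m ∈ M ⊔ K := (le_sup_left : M ≤ M ⊔ K) hm
    have h3 : z * m * z⁻¹ * m⁻¹ ∈ N.map (M ⊔ K).subtype ⊓ M := by
      refine ⟨⟨_, hNz ⟨m, hmMQ⟩, rfl⟩, ?_⟩
      exact M.mul_mem ((mem_normalizer_iff.1 (hM hzQ) _).1 hm) (M.inv_mem hm)
    have h4 : N.map (M ⊔ K).subtype ⊓ M ≤ OO M := by
      refine le_OO inf_le_right ?_ ?_
      · intro y hy
        rw [mem_normalizer_iff_cj, cj_inf, mem_normalizer_iff_cj.1 (le_normalizer hy)]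
        congr 1
        rw [← mem_normalizer_iff_cj]
        have h5 := (normal_subgroupOf_iff_le_normalizer (map_subtype_le N : N.map (M ⊔ K).subtype ≤ _)).1 (by
          rw [subgroupOf, comap_map_eq_self_of_injective (M ⊔ K).subtype_injective]
          exact hN)
        exact h5 ((le_sup_left : M ≤ M ⊔ K) hy)
      · intro h5
        have h6 : Nat.card (N.map (M ⊔ K).subtype) = Nat.card N :=
          card_map_of_injective (M ⊔ K).subtype_injective
        have h7 := h5.trans (card_dvd_of_le (inf_le_left : N.map (M ⊔ K).subtype ⊓ M ≤ _))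
        rw [h6] at h7
        rw [← Nat.not_even_iff_odd, even_iff_two_dvd] at hNodd
        exact hNodd h7
    have h5 := h4 h3
    rw [hO, Subgroup.mem_bot, mul_inv_eq_one, mul_inv_eq_iff_eq_mul] at h5
    exact h5.symm
  -- `K` centralizes `z' = z^g`
  have hz'T : z⁻¹ * (g * z * g⁻¹) ∈ T := by
    refine ⟨S.mul_mem (S.inv_mem (hKS hzQ)) hgS, ?_⟩
    obtain ⟨m, hm, q, hq, rfl⟩ := LB.exists_mul_of_mem_sup hM hgMQ
    have hqz := hzK q hq
    have h3 : z⁻¹ * (m * q * z * (m * q)⁻¹) = (z⁻¹ * m * z⁻¹⁻¹) * m⁻¹ := by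
      calc z⁻¹ * (m * q * z * (m * q)⁻¹) = z⁻¹ * m * (q * z) * q⁻¹ * m⁻¹ := by group
        _ = z⁻¹ * m * (z * q) * q⁻¹ * m⁻¹ := by rw [hqz]
        _ = _ := by group
    rw [h3]
    exact M.mul_mem ((mem_normalizer_iff.1 (hM (K.inv_mem hzQ)) _).1 hm) (M.inv_mem hm)
  have hK' : cj g K ∈ Om := h.conj K hK g
  have hzz' : zz (cj g K) = g * z * g⁻¹ := h.zz_cj hK g
  have hQz' : ∀ a ∈ K, a * zz (cj g K) = zz (cj g K) * a := by
    intro a ha
    rw [hzz']
    have h3 := hQT a ha _ hz'T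
    have h4 := hzK a ha
    set w := z⁻¹ * (g * z * g⁻¹) with hw
    have h5 : g * z * g⁻¹ = z * w := by rw [hw]; group
    rw [h5]
    calc a * (z * w) = (a * z) * w := by group
      _ = z * (a * w) := by rw [h4]; group
      _ = z * (w * a) := by rw [h3]
      _ = z * w * a := by group
  have hneK : K ≠ cj g K := by
    intro h3
    apply hgz
    rw [← hzz', ← h3]
  have hQK' := h.le_normalizer_of_commute hK hK' (syl_self (h2 K hK)) hQz'
  obtain ⟨Q', hQ', -, hQQ'⟩ := h.comm_of_normalizes hK hK' hneK (syl_self (h2 K hK)) hQK'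
  have hQ'eq : Q' = cj g K := LB.syl_eq_of_le hQ' (h2 _ hK') le_rfl hQ'.1
  subst hQ'eq
  -- `K ≤ M ⊔ K'`
  have hcjMK : cj g (M ⊔ K) = M ⊔ K := mem_normalizer_iff_cj.1 (le_normalizer hgMQ)
  have hcjM : cj g M = M := mem_normalizer_iff_cj.1 (hMQ hgMQ)
  have hMK' : M ⊔ cj g K = M ⊔ K := by
    rw [← hcjMK, cj_sup, hcjM]
  have hK'n : cj g K ≤ normalizer (M : Set G) := le_sup_right.trans (hMK'.le.trans hMQ)
  obtain ⟨v, hv, c, hc, hvc⟩ := h.exists_comm_eq hK (h2 K hK)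
  have hcM : c ∈ M ⊔ cj g K := by rw [hMK']; exact (le_sup_right : K ≤ M ⊔ K) hc
  obtain ⟨m, hm, y, hy, hcy⟩ := LB.exists_mul_of_mem_sup hK'n hcM
  have h3 := hQQ' v hv y hy
  apply hz
  rw [hzdef, ← hvc]
  have h4 : v * c * v⁻¹ * c⁻¹ = (v * m * v⁻¹) * m⁻¹ := by
    rw [hcy]
    calc v * (m * y) * v⁻¹ * (m * y)⁻¹ = v * m * (y * v⁻¹) * y⁻¹ * m⁻¹ := by group
      _ = v * m * (v⁻¹ * (v * y) * v⁻¹) * y⁻¹ * m⁻¹ := by group
      _ = v * m * (v⁻¹ * (y * v) * v⁻¹) * y⁻¹ * m⁻¹ := by rw [h3]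
      _ = _ := by group
  rw [h4]
  exact M.mul_mem ((mem_normalizer_iff.1 (hM hv) _).1 hm) (M.inv_mem hm)

/-- **E'** : if `zz L` commutes with the 2-group `K`, then `K = L` or `K` and `L` commute -/
theorem comm_of_zz_comm (h : Hyp Om) (hK : K ∈ Om) (hL : L ∈ Om) (h2 : IsPGroup 2 K) (hL2 : IsPGroup 2 L)
    (hc : ∀ a ∈ K, a * zz L = zz L * a) (hne : K ≠ L) : ∀ a ∈ K, ∀ b ∈ L, a * b = b * a := by
  obtain ⟨R, hR, -, hRc⟩ := h.comm_of_normalizes hK hL hne (syl_self h2)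
    (h.le_normalizer_of_commute hK hL (syl_self h2) hc)
  have h3 : R = L := LB.syl_eq_of_le hR hL2 le_rfl hR.1
  subst h3
  exact hRc

end Hyp

end Cfsg.Agent.Cit
end

-- part: OddHalf/NI/Quot
section
set_option linter.all false
open scoped Cfsg.Agent.FastGrp

/-!
# The quotient step of the node "no intrinsic component" (helper803)

`L` finite quasisimple, `b ∉ Z(L)` an involution, `B ∋ b` subnormal in `C_L(b)`, `B ≅ SL(2,F)`, `F` finite of odd
order. Then `b` is a classical involution of `L / Z(L)`; so S1310 says that `L / Z(L)` is of Lie type in odd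
characteristic or `M₁₁`.
-/

set_option autoImplicit false
set_option linter.style.haveILetI false

namespace Cfsg.Agent.OddHalf.NI.Quot

open Subgroup Cfsg Cfsg.Agent.OddHalf.Iface

universe u

section

variable {L : Type u} [Group L] {b : L}

/-- the preimage of `C_{L/Z}(b)` -/
def CZ (b : L) : Subgroup L :=
  (centralizer ({(b : L ⧸ center L)} : Set (L ⧸ center L))).comap (QuotientGroup.mk' (center L))

theorem mem_CZ {x : L} : x ∈ CZ b ↔ ∃ c ∈ center L, x * b = b * x * c := by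
  rw [CZ, mem_comap, mem_centralizer_singleton_iff, QuotientGroup.mk'_apply, ← QuotientGroup.mk_mul,
    ← QuotientGroup.mk_mul, eq_comm, QuotientGroup.eq]
  constructor
  · intro h
    exact ⟨_, h, by group⟩
  · rintro ⟨c, hc, h⟩
    rw [h]
    simpa [mul_assoc] using hc

theorem le_CZ : centralizer ({b} : Set L) ≤ CZ b := fun x hx =>
  mem_CZ.mpr ⟨1, one_mem _, by rw [mul_one]; exact mem_centralizer_singleton_iff.mp hx⟩

theorem normal_subgroupOf : ((centralizer ({b} : Set L)).subgroupOf (CZ b)).Normal := by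
  refine ⟨fun g hg x => ?_⟩
  rw [mem_subgroupOf, mem_centralizer_singleton_iff] at hg ⊢
  obtain ⟨c, hc, h⟩ := mem_CZ.mp (CZ b |>.inv_mem x.2)
  have hcc : ∀ y : L, y * c = c * y := fun y => mem_center_iff.mp hc y
  have h1 : ((x : L)⁻¹) * b * (x : L) = b * c := by
    rw [h, mul_assoc (b * (x : L)⁻¹), ← hcc, mul_assoc, ← mul_assoc _ (x : L) c, inv_mul_cancel, one_mul]
  change ((x : L) * g * (x : L)⁻¹) * b = b * ((x : L) * g * (x : L)⁻¹)
  have h2 : (x : L)⁻¹ * b = b * c * (x : L)⁻¹ := by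
    rw [← h1]; group
  have h3 : b * (x : L) = (x : L) * (b * c) := by
    rw [← h1]; group
  calc ((x : L) * g * (x : L)⁻¹) * b = (x : L) * g * ((x : L)⁻¹ * b) := by group
    _ = (x : L) * (g * b) * c * (x : L)⁻¹ := by rw [h2]; group
    _ = (x : L) * (b * g) * c * (x : L)⁻¹ := by rw [hg]
    _ = (x : L) * b * (g * c) * (x : L)⁻¹ := by group
    _ = (x : L) * b * (c * g) * (x : L)⁻¹ := by rw [hcc]
    _ = ((x : L) * (b * c)) * g * (x : L)⁻¹ := by group
    _ = b * ((x : L) * g * (x : L)⁻¹) := by rw [← h3]; group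

theorem subnormal_CZ {B : Subgroup L} (hB : B ≤ centralizer ({b} : Set L))
    (hs : (B.subgroupOf (centralizer ({b} : Set L))).IsSubnormal) : (B.subgroupOf (CZ b)).IsSubnormal := by
  have hle : centralizer ({b} : Set L) ≤ CZ b := le_CZ
  have h1 : B.subgroupOf (CZ b) ≤ (centralizer ({b} : Set L)).subgroupOf (CZ b) := fun x hx => hB hx
  refine IsSubnormal.trans h1 ?_ normal_subgroupOf.isSubnormal
  have h2 := hs.comap (subgroupOfEquivOfLe hle).toMonoidHom
  convert h2 using 1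
  ext x
  rfl

theorem subnormal_map {B : Subgroup L} (hB : B ≤ centralizer ({b} : Set L))
    (hs : (B.subgroupOf (centralizer ({b} : Set L))).IsSubnormal) :
    (((B.map (QuotientGroup.mk' (center L))).subgroupOf
      (centralizer ({(b : L ⧸ center L)} : Set (L ⧸ center L))))).IsSubnormal := by
  have hsur := MonoidHom.subgroupComap_surjective_of_surjective (QuotientGroup.mk' (center L))
    (centralizer ({(b : L ⧸ center L)} : Set (L ⧸ center L))) (QuotientGroup.mk'_surjective _)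
  have h1 := (subnormal_CZ hB hs).map hsur
  convert h1 using 1
  ext x
  constructor
  · intro hx
    obtain ⟨y, hy, hyx⟩ := mem_subgroupOf.mp hx
    exact ⟨⟨y, le_CZ (hB hy)⟩, hy, Subtype.ext hyx⟩
  · rintro ⟨y, hy, rfl⟩
    exact ⟨y, hy, rfl⟩

end

/-- An involution of a group isomorphic to `SL(2,F)` is the only one, and it is central. -/
theorem sl_center {B : Type*} [Group B] {F : Type} [Field F] [Fintype F] (hF : Odd (Fintype.card F))
    (e : B ≃* Matrix.SpecialLinearGroup (Fin 2) F) {b : B} (hb : orderOf b = 2) {x : B} (hx : x ∈ center B) :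
    x = 1 ∨ x = b := by
  have h2 : (2 : F) ≠ 0 := by
    intro h
    have h1 : ringChar F ≠ 2 := by
      intro h3
      have h4 := FiniteField.even_card_of_char_two h3
      rw [Nat.odd_iff] at hF
      omega
    exact h1 (by
      haveI := ringChar.charP F
      have : ringChar F ∣ 2 := (CharP.cast_eq_zero_iff F (ringChar F) 2).mp (by exact_mod_cast h)
      rcases (Nat.dvd_prime Nat.prime_two).mp this with h4 | h4
      · exfalso
        exact CharP.char_ne_one F (ringChar F) h4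
      · exact h4)
  have hsq : ∀ y : B, y * y = 1 → y = 1 ∨ e y = -1 := by
    intro y hy
    have h3 : e y * e y = 1 := by rw [← map_mul, hy, map_one]
    rcases Lib.PSL2Inv.sq_eq_one h2 h3 with h4 | h4
    · left
      exact e.injective (by rw [h4, map_one])
    · exact Or.inr h4
  have hb1 : b ≠ 1 := by
    rintro rfl
    rw [orderOf_one] at hb
    exact absurd hb (by decide)
  have hbb : e b = -1 := by
    rcases hsq b (by rw [← pow_two, ← hb, pow_orderOf_eq_one]) with h | h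
    · exact absurd h hb1
    · exact h
  have hx1 : e x ∈ center (Matrix.SpecialLinearGroup (Fin 2) F) := by
    rw [mem_center_iff] at hx ⊢
    intro g
    have := congrArg e (hx (e.symm g))
    simpa using this
  rw [Cfsg.Agent.TwoFusion.QuatCoverSL.center_eq_zpowers hF] at hx1
  have h3 : e x * e x = 1 := by
    have h4 := orderOf_dvd_of_mem_zpowers hx1
    rw [Cfsg.Agent.TwoFusion.QuatCoverSL.orderOf_neg_one hF] at h4
    rw [← pow_two]
    exact orderOf_dvd_iff_pow_eq_one.mp h4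
  rcases hsq x (e.injective (by rw [map_mul, h3, map_one])) with h4 | h4
  · exact Or.inl h4
  · exact Or.inr (e.injective (by rw [h4, hbb]))

/-- **The quotient step.** -/
theorem lieOdd_of_classical (P : Stmts.P1310.{u}) {L : Type u} [Group L] [Finite L] (hq : IsQuasisimple L)
    {b : L} (hb : orderOf b = 2) (hbZ : b ∉ center L) {B : Subgroup L} (hB : B ≤ centralizer ({b} : Set L))
    (hbB : b ∈ B) (hs : (B.subgroupOf (centralizer ({b} : Set L))).IsSubnormal)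
    {F : Type} [Field F] [Fintype F] (hF : Odd (Fintype.card F))
    (e : ↥B ≃* Matrix.SpecialLinearGroup (Fin 2) F) :
    (∃ p : ℕ, p.Prime ∧ p ≠ 2 ∧ IsLieTypeChar p (L ⧸ center L)) ∨ Spor.IsoM11 (L ⧸ center L) := by
  haveI := hq.2
  have hna := Soft.quo_na hq
  set X := L ⧸ center L with hX
  let π : L →* X := QuotientGroup.mk' (center L)
  have hinj : ∀ x ∈ B, x ∈ center L → x = 1 := by
    intro x hx hxZ
    have h1 : (⟨x, hx⟩ : ↥B) ∈ center ↥B := by
      rw [mem_center_iff]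
      intro g
      exact Subtype.ext (mem_center_iff.mp hxZ g)
    rcases sl_center hF e (b := ⟨b, hbB⟩) (by rw [← orderOf_coe]; exact hb) h1 with h2 | h2
    · exact congrArg Subtype.val h2
    · exfalso
      apply hbZ
      rw [← show x = b from congrArg Subtype.val h2]
      exact hxZ
  have hb1 : b ≠ 1 := by
    rintro rfl
    rw [orderOf_one] at hb
    exact absurd hb (by decide)
  have hzo : orderOf (π b) = 2 := by
    refine orderOf_eq_prime ?_ ?_
    · rw [← map_pow, ← hb, pow_orderOf_eq_one, map_one]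
    · intro h
      exact hbZ ((QuotientGroup.eq_one_iff b).mp h)
  let r : ↥B →* X := π.comp B.subtype
  have hr : Function.Injective r := by
    rw [injective_iff_map_eq_one]
    intro x hx
    exact Subtype.ext (hinj x x.2 ((QuotientGroup.eq_one_iff (x : L)).mp hx))
  have hrange : r.range = B.map π := by
    rw [MonoidHom.range_comp, range_subtype]
  let e1 : ↥B ≃* ↥(B.map π) := (MonoidHom.ofInjective hr).trans (MulEquiv.subgroupCongr hrange)
  let e2 : ↥(B.map π) ≃* Matrix.SpecialLinearGroup (Fin 2) F := e1.symm.trans e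
  have hcore : oddCore ↥(B.map π) = ⊥ := by
    have h1 := Cit.ParabSL2.oddCore_sl hF
    have h2 := Lib.Cores.map_equiv_pPrimeCore e2 2
    rw [eq_bot_iff]
    intro x hx
    have h3 : e2 x ∈ (oddCore ↥(B.map π)).map e2.toMonoidHom := ⟨x, hx, rfl⟩
    rw [show (oddCore ↥(B.map π)).map e2.toMonoidHom = oddCore _ from h2, h1, mem_bot] at h3
    rw [mem_bot]
    exact e2.injective (by rw [h3, map_one])
  let e3 : ↥(B.map π) ⧸ oddCore ↥(B.map π) ≃* Matrix.SpecialLinearGroup (Fin 2) F :=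
    (QuotientGroup.quotientMulEquivOfEq hcore).trans (QuotientGroup.quotientBot.trans e2)
  have hmain := P (G := X) (Known.isSimple_congr (Soft.fstarEquiv hna).symm inferInstance) (by
      intro h
      apply hna
      refine ⟨⟨fun a c => ?_⟩⟩
      have h1 := h.is_comm.comm ((Soft.fstarEquiv hna).symm a) ((Soft.fstarEquiv hna).symm c)
      have h2 := congrArg (Soft.fstarEquiv hna) h1
      simpa using h2) (π b) hzo (B.map π) (by
      rintro _ ⟨x, hx, rfl⟩
      rw [mem_centralizer_singleton_iff, ← map_mul, ← map_mul, mem_centralizer_singleton_iff.mp (hB hx)])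
    ⟨b, hbB, rfl⟩ (subnormal_map hB hs) (Or.inl ⟨F, inferInstance, inferInstance, hF, ⟨e3⟩⟩)
  rcases hmain with ⟨p, hp, hp2, h⟩ | h
  · left
    exact ⟨p, hp, hp2, Known.isLieTypeChar_congr (Soft.fstarEquiv hna) h⟩
  · right
    obtain ⟨f⟩ := h
    exact ⟨(Soft.fstarEquiv hna).symm.trans f⟩

end Cfsg.Agent.OddHalf.NI.Quot

private theorem dce_8c4f3e5ed4ba : _root_.True := by
  try have : _root_.True := by simp only [_root_.Cfsg.Agent.OddHalf.NI.Quot.CZ.eq_1]
  try have : _root_.True := by simp only [_root_.Cfsg.Agent.OddHalf.Soft.fstarEquiv.congr_simp]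
  exact _root_.True.intro
end

-- part: OddHalf/NI/Final
section
set_option linter.all false
open scoped Cfsg.Agent.FastGrp

/-!
# Node NI: the order-free form

`noBig : F1 → NIV → NoBig`.
-/

set_option autoImplicit false

namespace Cfsg.Agent.OddHalf.NI.Final

open Subgroup Cfsg Cfsg.Agent.OddHalf.Iface Cfsg.Agent.SignalizersComponents
open Cfsg.Agent.OddHalf.D3 (cj Comp mem_cs)

universe u

section Gen

variable {G : Type u} [Group G]

theorem comp_of_compOf {t : G} {K : Subgroup G} (h : CompOf t K) : Comp t K := ⟨h.1, h.2⟩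

theorem compOf_of_comp {t : G} {K : Subgroup G} (h : Comp t K) : CompOf t K := ⟨h.le, h.comp⟩

/-- A component of `L ∩ M`, `L` a component of `H ≥ M`, is a component of `M`. -/
theorem CompIn.of_inf {H L M K : Subgroup G} (hL : CompIn H L) (hM : M ≤ H) (hK : CompIn (L ⊓ M) K) :
    CompIn M K := by
  have hKM : K ≤ M := hK.le.trans inf_le_right
  refine ⟨hKM, ?_, ?_⟩
  · have h1 : (L.subgroupOf H).IsSubnormal := hL.comp.1
    have h2 : ((L ⊓ M).subgroupOf M).IsSubnormal := by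
      have h3 := h1.comap (Subgroup.inclusion hM)
      have h4 : (L.subgroupOf H).comap (Subgroup.inclusion hM) = (L ⊓ M).subgroupOf M := by
        ext x
        simp only [mem_comap, mem_subgroupOf, mem_inf, Subgroup.coe_inclusion]
        exact ⟨fun h => ⟨h, x.2⟩, fun h => h.1⟩
      rwa [h4] at h3
    have h5 : (K.subgroupOf M) ≤ (L ⊓ M).subgroupOf M := fun x hx => hK.le hx
    refine Subgroup.IsSubnormal.trans h5 ?_ h2
    have h6 : (K.subgroupOf M).subgroupOf ((L ⊓ M).subgroupOf M) =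
        (K.subgroupOf (L ⊓ M)).comap (Subgroup.subgroupOfEquivOfLe inf_le_right).toMonoidHom := rfl
    rw [h6]
    exact hK.comp.1.comap _
  · exact Components.isQuasisimple_of_mulEquiv (subgroupOfEquivOfLe hKM).symm hK.quasi

theorem isSL_congr {A B : Type*} [Group A] [Group B] (e : A ≃* B) (h : IsSL A) : IsSL B := by
  obtain ⟨F, i1, i2, h1, h2, ⟨f⟩⟩ := h
  exact ⟨F, i1, i2, h1, h2, ⟨e.symm.trans f⟩⟩

theorem isSL_quasi {A : Type*} [Group A] (h : IsSL A) : IsQuasisimple A := by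
  obtain ⟨F, i1, i2, h1, h2, ⟨f⟩⟩ := h
  exact Components.isQuasisimple_of_mulEquiv f.symm
    (SLQuasisimple.isQuasisimple_two (by rw [Nat.card_eq_fintype_card]; omega))

/-- `SL₂(q)`, `q > 3`, is never a component of `C(z)`, `z ∈ J`. -/
theorem not_isSL (C : Ctx G) {z : G} (hz : orderOf z = 2) {J : Subgroup G} (hJ : Comp z J) (hzJ : z ∈ J) :
    ¬ IsSL ↥J := by
  rintro ⟨F, i1, i2, h1, h2, ⟨f⟩⟩
  have := C.fin
  refine C.classical z J hz ⟨hJ.le, hzJ, hJ.comp.1⟩ (Or.inl ⟨F, i1, i2, h1, ?_⟩)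
  -- the core of `J` is trivial
  have hO : oddCore ↥J = ⊥ := by
    have h3 := Soft.CompOf.center_isPGroup (C.bal z hz) (compOf_of_comp hJ)
    have hq := hJ.quasi
    have : Fact (Nat.Prime 2) := ⟨Nat.prime_two⟩
    have : (oddCore ↥J).Normal := pPrimeCore_normal 2 ↥J
    have hcop : (Nat.card (oddCore ↥J)).Coprime 2 := Lib.Cores.pPrimeCore_coprime 2
    rcases Components.quasisimple_normal hq (oddCore ↥J) inferInstance with h4 | h4
    · exfalso
      have h5 : 2 ∣ Nat.card ↥J := by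
        have h6 : orderOf (⟨z, hzJ⟩ : ↥J) = 2 := by rw [Subgroup.orderOf_mk, hz]
        exact h6 ▸ orderOf_dvd_natCard _
      rw [h4, Subgroup.card_top, Nat.coprime_two_right] at hcop
      exact (Nat.not_even_iff_odd.mpr hcop) (even_iff_two_dvd.mpr h5)
    · have h5 : IsPGroup 2 ↥(oddCore ↥J) := h3.to_le h4
      obtain ⟨n, hn⟩ := IsPGroup.iff_card.mp h5
      rw [← Subgroup.card_eq_one, hn]
      rw [hn, Nat.coprime_two_right] at hcop
      rcases Nat.eq_zero_or_pos n with h6 | h6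
      · rw [h6, pow_zero]
      · exact absurd (Nat.even_pow.mpr ⟨even_two, h6.ne'⟩) (Nat.not_even_iff_odd.mpr hcop)
  exact ⟨((QuotientGroup.quotientMulEquivOfEq hO).trans QuotientGroup.quotientBot).trans f⟩

end Gen

/-- **The order-free form of NI, `q > 3`.** -/
theorem noBig (hF : F1.{u}) (hN : NIV.{u}) : NoBig.{u} := by
  intro G _ C t K ht hK hbig
  have := C.fin
  have hq := Soft.CompOf.quasisimple hK
  have hz := Soft.CompOf.center_isPGroup (C.bal t ht) hK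
  obtain ⟨j, J, hj, hjJ, hJ, hsub, hSL⟩ := hF ↥K hq hz hbig
  -- `J` in `G`
  have hjo : orderOf (j : G) = 2 := by rw [Subgroup.orderOf_coe, hj]
  have hSL' : IsSL ↥(J.map K.subtype) :=
    isSL_congr (J.equivMapOfInjective K.subtype K.subtype_injective) hSL
  have hquasi : IsQuasisimple ↥J := isSL_quasi hSL
  have hcJ : Comp j J := ⟨hJ, hsub, Components.isQuasisimple_of_mulEquiv (subgroupOfEquivOfLe hJ).symm hquasi⟩
  have h1 : CompIn (K ⊓ centralizer ({(j : G)} : Set G)) (J.map K.subtype) := compIn_of_comp_sub hcJ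
  have h2 : CompIn (centralizer ({t} : Set G)) K := compIn_of_comp (comp_of_compOf hK)
  have h3 : CompIn (centralizer ({t} : Set G) ⊓ centralizer ({(j : G)} : Set G)) (J.map K.subtype) := by
    refine CompIn.of_inf h2 inf_le_left ?_
    refine h1.mono ?_ ?_
    · exact le_inf (map_subtype_le J) (le_inf ((map_subtype_le J).trans hK.1) (h1.le.trans inf_le_right))
    · exact le_inf inf_le_left (inf_le_right.trans inf_le_right)
  have hjJ' : (j : G) ∈ J.map K.subtype := mem_map_of_mem K.subtype hjJ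
  by_cases htj : t = j
  · -- `K = J` is classical
    have h4 : K ⊓ centralizer ({(j : G)} : Set G) = K := by
      rw [← htj]; exact inf_eq_left.mpr hK.1
    rw [h4] at h1
    have h5 : J.map K.subtype = K := by
      have hq' := h1.eq_of_le hq le_rfl h1.le
      exact hq'
    refine not_isSL C ht (comp_of_compOf hK) ?_ ?_
    · rw [htj]; exact j.2
    · rw [h5] at hSL'; exact hSL'
  · refine hN G C t j (J.map K.subtype) ht hjo htj ?_ h3 hjJ' hSL'
    have h4 := mem_centralizer_singleton_iff.mp (hK.1 j.2)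
    exact h4.symm

end Cfsg.Agent.OddHalf.NI.Final
end

-- part: OddHalf/NI/Ex/Descend
section
set_option linter.all false
open scoped Cfsg.Agent.FastGrp

/-!
# (EX): the configuration in `N / Z(N)` (helper803)

`α` an automorphism of the quasisimple group `N`, `α² = 1`, `J ∋ y` a component of `C_N(α)`, `J ≅ SL₂(q)`,
`y ∈ Z(N)` an involution, `J ≠ N`. Then `α` acts on `N / Z(N)` as an automorphism of order 2 and the image of `J`
is a component `L₂(q)` of its centralizer.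
-/

set_option autoImplicit false

namespace Cfsg.Agent.OddHalf.NI.Ex

open Subgroup Cfsg Cfsg.Agent.OddHalf.Iface
open Cfsg.Agent.SignalizersComponents

universe u

variable {N : Type u} [Group N]

theorem map_center (α : MulAut N) : (center N).map (α : N →* N) = center N := by
  ext x
  constructor
  · rintro ⟨y, hy, rfl⟩
    rw [SetLike.mem_coe, mem_center_iff] at hy
    rw [mem_center_iff]
    intro g
    have h := congrArg α (hy (α.symm g))
    rw [map_mul, map_mul, MulEquiv.apply_symm_apply] at h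
    exact h
  · intro hx
    refine ⟨α.symm x, ?_, α.apply_symm_apply x⟩
    rw [SetLike.mem_coe, mem_center_iff]
    intro g
    have h := congrArg α.symm (mem_center_iff.mp hx (α g))
    rw [map_mul, map_mul, MulEquiv.symm_apply_apply] at h
    exact h

/-- the automorphism of `N / Z(N)` induced by `α` -/
noncomputable def bar (α : MulAut N) : MulAut (N ⧸ center N) :=
  QuotientGroup.congr (center N) (center N) α (map_center α)

theorem bar_mk (α : MulAut N) (x : N) : bar α (x : N ⧸ center N) = ((α x : N) : N ⧸ center N) := rfl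

/-- An automorphism of a perfect group which is trivial modulo the centre is trivial. -/
theorem eq_one_of_bar (hp : commutator N = ⊤) {α : MulAut N} (h : bar α = 1) : α = 1 := by
  have h1 : ∀ x : N, x⁻¹ * α x ∈ center N := by
    intro x
    have h2 : bar α (x : N ⧸ center N) = (x : N ⧸ center N) := by rw [h]; rfl
    rw [bar_mk, eq_comm, QuotientGroup.eq] at h2
    exact h2
  have h3 : commutator N ≤ fix α := by
    rw [_root_.commutator_def, Subgroup.commutator_le]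
    intro a _ b _
    rw [mem_fix, commutatorElement_def, map_mul, map_mul, map_mul, map_inv, map_inv]
    have ha : α a = a * (a⁻¹ * α a) := by group
    have hb : α b = b * (b⁻¹ * α b) := by group
    have ca := mem_center_iff.mp (h1 a)
    have cb := mem_center_iff.mp (h1 b)
    set c := a⁻¹ * α a with hc
    set d := b⁻¹ * α b with hd
    rw [ha, hb]
    calc a * c * (b * d) * (a * c)⁻¹ * (b * d)⁻¹
        = a * (c * b) * d * c⁻¹ * a⁻¹ * d⁻¹ * b⁻¹ := by group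
      _ = a * b * (c * d) * c⁻¹ * a⁻¹ * d⁻¹ * b⁻¹ := by rw [← ca b]; group
      _ = a * b * (d * c) * c⁻¹ * a⁻¹ * d⁻¹ * b⁻¹ := by rw [← ca d]
      _ = a * b * (d * a⁻¹) * d⁻¹ * b⁻¹ := by group
      _ = a * b * (a⁻¹ * d) * d⁻¹ * b⁻¹ := by rw [← cb a⁻¹]
      _ = a * b * a⁻¹ * b⁻¹ := by group
  rw [hp] at h3
  ext x
  exact h3 (mem_top x)

theorem bar_mul (α β : MulAut N) : bar (α * β) = bar α * bar β := by
  ext x
  obtain ⟨x, rfl⟩ := QuotientGroup.mk_surjective x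
  rfl

theorem bar_one : bar (1 : MulAut N) = 1 := by
  ext x
  obtain ⟨x, rfl⟩ := QuotientGroup.mk_surjective x
  rfl

/-- the preimage of `C_{N/Z}(α)` -/
noncomputable def FZ (α : MulAut N) : Subgroup N := (fix (bar α)).comap (QuotientGroup.mk' (center N))

theorem mem_FZ {α : MulAut N} {x : N} : x ∈ FZ α ↔ x⁻¹ * α x ∈ center N := by
  rw [FZ, mem_comap, mem_fix, QuotientGroup.mk'_apply, bar_mk, eq_comm, QuotientGroup.eq]

theorem le_FZ (α : MulAut N) : fix α ≤ FZ α := fun x hx => by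
  rw [mem_FZ, mem_fix.mp hx, inv_mul_cancel]
  exact one_mem _

theorem normal_subgroupOf (α : MulAut N) : ((fix α).subgroupOf (FZ α)).Normal := by
  refine ⟨fun g hg x => ?_⟩
  rw [mem_subgroupOf, mem_fix] at hg ⊢
  have hx := mem_FZ.mp x.2
  have hxa : α (x : N) = (x : N) * ((x : N)⁻¹ * α x) := by group
  have hc := mem_center_iff.mp hx
  set c := (x : N)⁻¹ * α x with hcd
  change α ((x : N) * g * (x : N)⁻¹) = (x : N) * g * (x : N)⁻¹
  rw [map_mul, map_mul, map_inv, hg, hxa]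
  calc (x : N) * c * g * ((x : N) * c)⁻¹ = (x : N) * (c * g) * c⁻¹ * (x : N)⁻¹ := by group
    _ = (x : N) * (g * c) * c⁻¹ * (x : N)⁻¹ := by rw [hc (g : N)]
    _ = (x : N) * g * (x : N)⁻¹ := by group

theorem subnormal_FZ {α : MulAut N} {J : Subgroup N} (hJ : J ≤ fix α)
    (hs : (J.subgroupOf (fix α)).IsSubnormal) : (J.subgroupOf (FZ α)).IsSubnormal := by
  have h1 : J.subgroupOf (FZ α) ≤ (fix α).subgroupOf (FZ α) := fun x hx => hJ hx
  refine IsSubnormal.trans h1 ?_ (normal_subgroupOf α).isSubnormal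
  have h2 := hs.comap (subgroupOfEquivOfLe (le_FZ α)).toMonoidHom
  convert h2 using 1
  ext x
  rfl

theorem subnormal_map {α : MulAut N} {J : Subgroup N} (hJ : J ≤ fix α)
    (hs : (J.subgroupOf (fix α)).IsSubnormal) :
    (((J.map (QuotientGroup.mk' (center N))).subgroupOf (fix (bar α)))).IsSubnormal := by
  have hsur := MonoidHom.subgroupComap_surjective_of_surjective (QuotientGroup.mk' (center N))
    (fix (bar α)) (QuotientGroup.mk'_surjective _)
  have h1 := (subnormal_FZ hJ hs).map hsur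
  convert h1 using 1
  ext x
  constructor
  · intro hx
    obtain ⟨y, hy, hyx⟩ := mem_subgroupOf.mp hx
    exact ⟨⟨y, le_FZ α (hJ hy)⟩, hy, Subtype.ext hyx⟩
  · rintro ⟨y, hy, rfl⟩
    exact ⟨y, hy, rfl⟩

/-- The image of `J` is `L₂(q)`. -/
theorem isL2_map {J : Subgroup N} {y : N} (hyJ : y ∈ J) (hy : orderOf y = 2) (hyZ : y ∈ center N)
    (hSL : IsSL ↥J) : IsL2 ↥(J.map (QuotientGroup.mk' (center N))) := by
  obtain ⟨F, iF, iF2, hF, h3, ⟨e⟩⟩ := hSL
  let π : N →* N ⧸ center N := QuotientGroup.mk' (center N)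
  have hker : (π.subgroupMap J).ker = center ↥J := by
    ext x
    rw [MonoidHom.mem_ker]
    constructor
    · intro h
      have h1 : (x : N) ∈ center N := (QuotientGroup.eq_one_iff (x : N)).mp (congrArg Subtype.val h)
      rw [mem_center_iff]
      intro g
      exact Subtype.ext (mem_center_iff.mp h1 g)
    · intro h
      apply Subtype.ext
      change π (x : N) = 1
      rcases Quot.sl_center hF e (b := ⟨y, hyJ⟩) (by rw [← orderOf_coe]; exact hy) h with h2 | h2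
      · rw [h2]; exact map_one π
      · rw [h2]
        exact (QuotientGroup.eq_one_iff y).mpr hyZ
  refine ⟨F, iF, iF2, hF, h3, ⟨?_⟩⟩
  have e1 : ↥J ⧸ center ↥J ≃* ↥(J.map π) :=
    (QuotientGroup.quotientMulEquivOfEq hker.symm).trans
      (QuotientGroup.quotientKerEquivOfSurjective _ (π.subgroupMap_surjective J))
  have e2 : ↥J ⧸ center ↥J ≃* Matrix.SpecialLinearGroup (Fin 2) F ⧸ center (Matrix.SpecialLinearGroup (Fin 2) F) :=
    QuotientGroup.congr _ _ e (by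
      ext x
      constructor
      · rintro ⟨z, hz, rfl⟩
        rw [SetLike.mem_coe, mem_center_iff] at hz
        rw [mem_center_iff]
        intro g
        have h := congrArg e (hz (e.symm g))
        rw [map_mul, map_mul, MulEquiv.apply_symm_apply] at h
        exact h
      · intro hx
        refine ⟨e.symm x, ?_, e.apply_symm_apply x⟩
        rw [SetLike.mem_coe, mem_center_iff]
        intro g
        have h := congrArg e.symm (mem_center_iff.mp hx (e g))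
        rw [map_mul, map_mul, MulEquiv.symm_apply_apply] at h
        exact h)
  exact e1.symm.trans e2

/-- **The descent to `N / Z(N)`.** -/
theorem descend [Finite N] (hq : IsQuasisimple N) {α : MulAut N} (hα : α * α = 1) {J : Subgroup N}
    (hJ : CompIn (fix α) J) (hne : J ≠ ⊤) {y : N} (hyJ : y ∈ J) (hy : orderOf y = 2) (hyZ : y ∈ center N)
    (hSL : IsSL ↥J) :
    orderOf (bar α) = 2 ∧ CompIn (fix (bar α)) (J.map (QuotientGroup.mk' (center N))) ∧
      IsL2 ↥(J.map (QuotientGroup.mk' (center N))) := by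
  have hL2 := isL2_map hyJ hy hyZ hSL
  refine ⟨?_, ?_, hL2⟩
  · refine orderOf_eq_prime ?_ ?_
    · rw [pow_two, ← bar_mul, hα, bar_one]
    · intro h
      have h1 := eq_one_of_bar hq.1.commutator_eq_top h
      apply hne
      have h2 : fix α = ⊤ := by
        rw [h1, eq_top_iff]
        intro x _
        rfl
      have h3 := hJ.comp.1
      rw [h2] at h3
      have h4 : CompIn (⊤ : Subgroup N) J := by rw [← h2]; exact hJ
      have h5 := h4.eq_of_le (L := ⊤) (Components.isQuasisimple_of_mulEquiv Subgroup.topEquiv.symm hq) le_rfl le_top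
      exact h5
  · refine ⟨?_, subnormal_map hJ.le hJ.comp.1, ?_⟩
    · rintro _ ⟨x, hx, rfl⟩
      rw [mem_fix, QuotientGroup.mk'_apply, bar_mk, mem_fix.mp (hJ.le hx)]
    · have hle : J.map (QuotientGroup.mk' (center N)) ≤ fix (bar α) := by
        rintro _ ⟨x, hx, rfl⟩
        rw [mem_fix, QuotientGroup.mk'_apply, bar_mk, mem_fix.mp (hJ.le hx)]
      refine Components.isQuasisimple_of_mulEquiv (subgroupOfEquivOfLe hle).symm ?_
      have hnt : Nontrivial ↥(J.map (QuotientGroup.mk' (center N))) := by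
        by_contra hn
        rw [not_nontrivial_iff_subsingleton] at hn
        have h5 : J ≤ center N := by
          intro x hx
          rw [← QuotientGroup.eq_one_iff]
          exact congrArg Subtype.val (Subsingleton.elim
            (⟨QuotientGroup.mk' (center N) x, mem_map_of_mem _ hx⟩ : ↥(J.map (QuotientGroup.mk' (center N)))) 1)
        apply Components.quasisimple_center_ne_top hJ.quasi
        rw [eq_top_iff]
        intro x _
        rw [mem_center_iff]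
        intro g
        exact Subtype.ext (mem_center_iff.mp (h5 x.2) g)
      exact QuasisimpleQuotient.isQuasisimple_of_surjective ((QuotientGroup.mk' (center N)).subgroupMap J)
        ((QuotientGroup.mk' (center N)).subgroupMap_surjective J) hJ.quasi

end Cfsg.Agent.OddHalf.NI.Ex

private theorem dce_dc1cc2729cfb : _root_.True := by
  try have : _root_.True := by simp only [_root_.Cfsg.Agent.OddHalf.NI.Ex.FZ.eq_1]
  exact _root_.True.intro
end

-- part: Omega/Lie/PairJOne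
section
set_option linter.all false
open scoped Cfsg.Agent.FastGrp

/-!
# K-fact (PAIR) for the Janko group `J₁` (text #12707)

Certificates: the Sylow 2-subgroup `{e i}` of `J₁`, an element `n` of order 7 permuting the seven involutions
`e i` cyclically and three elements of order 5 centralised by `e 1` and inverted by `e j`, `j = 2, …, 7`.
-/

set_option autoImplicit false

namespace Cfsg.Agent.Omega.Lie.PairJOne

open Subgroup Cfsg.Agent.Omega.Lie.PairFact
open Cfsg.Agent.SporadicB.J1.Main Cfsg.Agent.SporadicB.J1.Mat Cfsg.Agent.SporadicB.J1.Data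
open Cfsg.Agent.SporadicB.J1
open Cfsg.Spor (J1)

/-- the element of order 7 -/
def nw : List Nat := [2, 3, 3, 0, 0, 3, 0, 3, 3, 0, 0]

/-- its action on `Fin 8` -/
def pm : Fin 8 → Fin 8 := ![0, 5, 4, 1, 3, 6, 7, 2]

theorem n_conj (i : Fin 8) : ev nw * e i = e (pm i) * ev nw := by
  refine ((rep_ev nw).mul (rep_e i)).eq ((rep_e (pm i)).mul (rep_ev nw)) ?_
  revert i
  decide +kernel

/-- elements of order 5 centralised by `e 1`, inverted by `e j` -/
def xw : Fin 8 → List Nat := ![[0, 1, 0, 1], [0, 1, 0, 1], [1, 1, 0, 3, 3, 0, 1, 1, 2],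
  [1, 1, 0, 3, 3, 0, 1, 1, 2], [0, 1, 0, 1], [0, 1, 0, 1], [1, 0, 0, 1, 2, 1, 2, 2, 1, 0, 0],
  [1, 0, 0, 1, 2, 1, 2, 2, 1, 0, 0]]

theorem x_pow (j : Fin 8) : ev (xw j) ^ 5 = 1 := by
  refine ((rep_ev (xw j)).pow 5).eq Rep.one ?_
  revert j
  decide +kernel

theorem x_ne (j : Fin 8) : ev (xw j) ≠ 1 := by
  refine (rep_ev (xw j)).ne Rep.one ?_
  revert j
  decide +kernel

theorem x_comm (j : Fin 8) : e 1 * ev (xw j) = ev (xw j) * e 1 := by
  refine ((rep_e 1).mul (rep_ev (xw j))).eq ((rep_ev (xw j)).mul (rep_e 1)) ?_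
  revert j
  decide +kernel

theorem x_inv (j : Fin 8) (h0 : j ≠ 0) (h1 : j ≠ 1) : e j * ev (xw j) * (e j * ev (xw j)) = 1 := by
  refine (((rep_e j).mul (rep_ev (xw j))).mul ((rep_e j).mul (rep_ev (xw j)))).eq Rep.one ?_
  revert j
  decide +kernel

theorem e_sq (i : Fin 8) : e i * e i = 1 := ((rep_e i).mul (rep_e i)).eq Rep.one (ce_sq i)

/-- (PAIR) for `b' = e 1`, `b = e j`. -/
theorem at_one (j : Fin 8) (h0 : j ≠ 0) (h1 : j ≠ 1) :
    ∃ x : J1, x ≠ 1 ∧ Odd (orderOf x) ∧ e j * x * (e j)⁻¹ = x⁻¹ ∧ e 1 * x * (e 1)⁻¹ = x := by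
  refine ⟨ev (xw j), x_ne j, ?_, ?_, ?_⟩
  · have : Fact (Nat.Prime 5) := ⟨by norm_num⟩
    rw [orderOf_eq_prime (x_pow j) (x_ne j)]
    decide
  · have h2 := x_inv j h0 h1
    have h3 : (e j)⁻¹ = e j := inv_eq_of_mul_eq_one_left (e_sq j)
    rw [h3]
    rw [← mul_assoc] at h2
    exact eq_inv_of_mul_eq_one_left h2
  · rw [x_comm, mul_inv_cancel_right]

/-- (PAIR) for `b' = e i`, `b = e j`. -/
theorem at_all (i j : Fin 8) (hi : i ≠ 0) (hj : j ≠ 0) (hij : j ≠ i) :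
    ∃ x : J1, x ≠ 1 ∧ Odd (orderOf x) ∧ e j * x * (e j)⁻¹ = x⁻¹ ∧ e i * x * (e i)⁻¹ = x := by
  -- a power of `n` maps `e 1` to `e i`
  have key : ∀ k : ℕ, ∀ j : Fin 8, j ≠ 0 → j ≠ pm^[k] 1 → ∃ x : J1, x ≠ 1 ∧ Odd (orderOf x) ∧
      e j * x * (e j)⁻¹ = x⁻¹ ∧ e (pm^[k] 1) * x * (e (pm^[k] 1))⁻¹ = x := by
    intro k
    induction k with
    | zero => exact at_one
    | succ k ih =>
      intro j h0 h1
      rw [Function.iterate_succ_apply'] at h1 ⊢
      have hs : ∀ j : Fin 8, ∃ l, pm l = j := by decide +kernel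
      obtain ⟨l, rfl⟩ := hs j
      have hl0 : l ≠ 0 := by
        rintro rfl
        exact h0 rfl
      have hl1 : l ≠ pm^[k] 1 := by
        rintro rfl
        exact h1 rfl
      obtain ⟨x, a1, a2, a3, a4⟩ := ih l hl0 hl1
      have hc : ∀ i : Fin 8, e (pm i) = ev nw * e i * (ev nw)⁻¹ := fun i => by
        rw [n_conj, mul_inv_cancel_right]
      refine ⟨ev nw * x * (ev nw)⁻¹, fun h5 => a1 ?_, ?_, ?_, ?_⟩
      · have : x = (ev nw)⁻¹ * (ev nw * x * (ev nw)⁻¹) * ev nw := by group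
        rw [this, h5, mul_one, inv_mul_cancel]
      · have : orderOf (ev nw * x * (ev nw)⁻¹) = orderOf x := by
          have := orderOf_injective (MulAut.conj (ev nw)).toMonoidHom (MulAut.conj (ev nw)).injective x
          simpa [MulAut.conj_apply] using this
        rwa [this]
      · rw [hc]
        have e1 : ev nw * e l * (ev nw)⁻¹ * (ev nw * x * (ev nw)⁻¹) * (ev nw * e l * (ev nw)⁻¹)⁻¹ =
            ev nw * (e l * x * (e l)⁻¹) * (ev nw)⁻¹ := by group
        rw [e1, a3]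
        group
      · rw [hc]
        have e1 : ev nw * e (pm^[k] 1) * (ev nw)⁻¹ * (ev nw * x * (ev nw)⁻¹) *
            (ev nw * e (pm^[k] 1) * (ev nw)⁻¹)⁻¹ =
            ev nw * (e (pm^[k] 1) * x * (e (pm^[k] 1))⁻¹) * (ev nw)⁻¹ := by group
        rw [e1, a4]
  have h7 : ∀ i : Fin 8, i ≠ 0 → ∃ k < 7, pm^[k] 1 = i := by decide +kernel
  obtain ⟨k, -, rfl⟩ := h7 i hi
  exact key k j hj hij

theorem card_J1 : Nat.card J1 = 175560 := isJ1.2

instance : Finite J1 := Nat.finite_of_card_ne_zero (by rw [card_J1]; norm_num)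

/-- **(PAIR) for `J₁`.** -/
theorem pair_J1 : Pair J1 := by
  have hE : Nat.card data.E = 8 := data.card_E
  have hmem : ∀ b ∈ data.E, ∃ i, e i = b := fun b hb => hb
  refine Pair.of_sylow data.E (IsPGroup.of_card (n := 3) (by rw [hE]; norm_num)) ?_ ?_
  · have h1 := data.E.card_mul_index
    rw [hE, card_J1] at h1
    omega
  · intro b hb b' hb' _ _ hb1 hb1' hne _
    obtain ⟨j, rfl⟩ := hmem b hb
    obtain ⟨i, rfl⟩ := hmem b' hb'
    refine at_all i j ?_ ?_ ?_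
    · rintro rfl
      exact hb1' rfl
    · rintro rfl
      exact hb1 rfl
    · rintro rfl
      exact hne rfl

theorem pair {K : Type*} [Group K] (h : Cfsg.Spor.IsoJ1 K) : Pair K := by
  obtain ⟨e⟩ := h
  exact pair_J1.congr e.symm

end Cfsg.Agent.Omega.Lie.PairJOne
end

-- part: OddHalf/NI3/Lift
section
set_option linter.all false
open scoped Cfsg.Agent.FastGrp

/-!
# Frames lift through central 2-extensions (NI over `F_3`, diagonal case)

`f : E → Y` surjective with central 2-kernel (`CExt f`). For `J ≃ SL₂(F)`, `|F|` odd, the subgroup `Lft f J` generated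
by the elements of odd order over `J` is isomorphic to `J` (`liftEquiv`). `Frame3.lift`: a frame of `Y` for `z` lifts to
a frame of `E` for some `z'` over `z`.
-/

set_option autoImplicit false

namespace Cfsg.Agent.OddHalf.NI3

open Subgroup Cfsg Cfsg.Agent.GH.Cov.Lft
open scoped commutatorElement

variable {E Y : Type*} [Group E] [Group Y] {f : E →* Y}

section SL

variable {F : Type*} [Field F] [Fintype F]

/-- a copy of `SL₂(F)`, `|F|` odd, is generated by its elements of odd order -/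
theorem le_closure_of_sl (hF : Odd (Fintype.card F)) {J : Subgroup Y}
    (e : ↥J ≃* Matrix.SpecialLinearGroup (Fin 2) F) : J ≤ closure {a : Y | a ∈ J ∧ Odd (orderOf a)} := by
  have h1 := GH.Cov.SLCore.sl_gen hF
  let g : Matrix.SpecialLinearGroup (Fin 2) F →* Y := J.subtype.comp e.symm.toMonoidHom
  have h2 : (⊤ : Subgroup (Matrix.SpecialLinearGroup (Fin 2) F)).map g = J := by
    ext x
    constructor
    · rintro ⟨s, -, rfl⟩
      exact (e.symm s).2
    · intro hx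
      exact ⟨e ⟨x, hx⟩, trivial, by change ((e.symm (e ⟨x, hx⟩) : ↥J) : Y) = x; rw [e.symm_apply_apply]⟩
  rw [← h1, MonoidHom.map_closure] at h2
  rw [← h2]
  refine closure_mono ?_
  rintro _ ⟨a, ha, rfl⟩
  refine ⟨?_, ?_⟩
  · rw [h2]
    exact (e.symm a).2
  · have hg : Function.Injective g := Subtype.val_injective.comp e.symm.injective
    rw [orderOf_injective g hg]
    exact ha

/-- injectivity on `Lft f J` -/
theorem eq_one_of_lft [Finite E] (hf : CExt f) (hF : Odd (Fintype.card F)) {J : Subgroup Y}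
    (e : ↥J ≃* Matrix.SpecialLinearGroup (Fin 2) F) {c : E} (hc : c ∈ Lft f J) (hfc : f c = 1) : c = 1 := by
  refine GH.Cov.QuatLift.injOn (K := Lft f J) (f := f) (t := ((e.symm (-1) : ↥J) : Y)) (Lft_gen J) ?_ ?_ ?_ hc hfc
  · intro c _ hc y _
    exact hf.cen c hc y
  · intro c _ hc
    exact hf.two c hc
  · intro y hy hyy
    have hm := map_mem hy
    have h1 : e ⟨f y, hm⟩ * e ⟨f y, hm⟩ = 1 := by
      rw [← map_mul]
      have h2 : (⟨f y, hm⟩ * ⟨f y, hm⟩ : ↥J) = 1 := Subtype.ext hyy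
      rw [h2, map_one]
    rcases Lib.PSL2Inv.sq_eq_one (TwoFusion.QuatCoverSL.two_ne_zero_of_odd hF) h1 with h | h
    · left
      have h2 : (⟨f y, hm⟩ : ↥J) = 1 := e.injective (by rw [h, map_one])
      exact congrArg Subtype.val h2
    · right
      rw [← h, e.symm_apply_apply]

/-- `J ≃ SL₂(F)` lifts isomorphically. -/
noncomputable def liftEquiv [Finite E] (hf : CExt f) (hF : Odd (Fintype.card F)) {J : Subgroup Y}
    (e : ↥J ≃* Matrix.SpecialLinearGroup (Fin 2) F) : ↥(Lft f J) ≃* ↥J :=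
  MulEquiv.ofBijective ((f.comp (Lft f J).subtype).codRestrict J
    (fun x => map_mem (π := f) (B := J) x.2)) (by
    constructor
    · rw [injective_iff_map_eq_one]
      intro x hx
      exact Subtype.ext (eq_one_of_lft hf hF e x.2 (congrArg Subtype.val hx))
    · rintro ⟨y, hy⟩
      obtain ⟨x, hx, hxy⟩ := hf.exists_mem (le_closure_of_sl hF e) hy
      exact ⟨⟨x, hx⟩, Subtype.ext hxy⟩)

end SL

/-- `Lft f J` is subnormal in `C_E(y')` if `J` is subnormal in `C_Y(f y')`. -/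
theorem lft_subnormal {J : Subgroup Y} {S : Set E} {T : Set Y} (hST : ∀ x ∈ centralizer S, f x ∈ centralizer T)
    (hle : Lft f J ≤ centralizer S) (hJ : (J.subgroupOf (centralizer T)).IsSubnormal) :
    ((Lft f J).subgroupOf (centralizer S)).IsSubnormal := by
  let C := centralizer S
  let P : Subgroup E := J.comap f ⊓ C
  have hP : P ≤ C := inf_le_right
  have hLP : Lft f J ≤ P := le_inf (fun x hx => map_mem hx) hle
  -- `P` is subnormal in `C`
  have h1 : (P.subgroupOf C).IsSubnormal := by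
    let g : ↥C →* ↥(centralizer T) := (f.comp C.subtype).codRestrict (centralizer T) (fun x => hST x x.2)
    have h2 := hJ.comap g
    have h3 : (J.subgroupOf (centralizer T)).comap g = P.subgroupOf C := by
      ext x
      rw [mem_comap, mem_subgroupOf, mem_subgroupOf]
      change f x ∈ J ↔ (x : E) ∈ J.comap f ⊓ C
      rw [mem_inf, mem_comap]
      exact ⟨fun h => ⟨h, x.2⟩, fun h => h.1⟩
    rwa [h3] at h2
  refine Subgroup.IsSubnormal.trans (fun x hx => hLP hx : (Lft f J).subgroupOf C ≤ P.subgroupOf C) ?_ h1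
  -- `Lft f J` is normal in `P`
  have h4 : (((Lft f J).subgroupOf C).subgroupOf (P.subgroupOf C)).Normal := by
    refine ⟨fun x hx g => ?_⟩
    rw [mem_subgroupOf, mem_subgroupOf] at hx ⊢
    have hg : f (((g : ↥C) : E)) ∈ J := (mem_inf.mp (mem_subgroupOf.mp g.2)).1
    exact conj_mem (π := f) (B := J) (B' := J) (fun b hb => J.mul_mem (J.mul_mem hg hb) (J.inv_mem hg)) _ hx
  exact h4.isSubnormal

/-- **Frames lift through central 2-extensions.** -/
theorem Frame3.lift [Finite E] (hf : CExt f) {z : Y} (fr : Frame3 Y z) :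
    ∃ z' : E, f z' = z ∧ Nonempty (Frame3 E z') := by
  classical
  obtain ⟨m, pos, J, y, iso, mem, ord, le, sub, comm, inj, three, gen⟩ := fr
  have hF : Odd (Fintype.card (ZMod 3)) := by rw [ZMod.card]; decide
  have e : ∀ i, ↥(J i) ≃* Matrix.SpecialLinearGroup (Fin 2) (ZMod 3) := fun i => (iso i).some
  let φ : ∀ i, ↥(Lft f (J i)) ≃* ↥(J i) := fun i => liftEquiv hf hF (e i)
  have hφ : ∀ i (x : ↥(Lft f (J i))), ((φ i x : ↥(J i)) : Y) = f x := fun i x => rfl
  let y' : Fin m → E := fun i => ((φ i).symm ⟨y i, mem i⟩ : ↥(Lft f (J i)))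
  have hy' : ∀ i, f (y' i) = y i := by
    intro i
    have h1 := hφ i ((φ i).symm ⟨y i, mem i⟩)
    rw [(φ i).apply_symm_apply] at h1
    exact h1.symm
  have hmem : ∀ i, y' i ∈ Lft f (J i) := fun i => ((φ i).symm ⟨y i, mem i⟩ : ↥(Lft f (J i))).2
  have hcomm : ∀ i j, i ≠ j → ∀ a ∈ Lft f (J i), ∀ b ∈ Lft f (J j), a * b = b * a := fun i j hij =>
    hf.comm (comm i j hij)
  have hle : ∀ i, Lft f (J i) ≤ centralizer {y' i} := by
    intro i a ha
    rw [mem_centralizer_singleton_iff]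
    have h1 : f a ∈ J i := map_mem ha
    have h2 := mem_centralizer_singleton_iff.mp (le i h1)
    have h3 : (⟨a, ha⟩ : ↥(Lft f (J i))) * ⟨y' i, hmem i⟩ = ⟨y' i, hmem i⟩ * ⟨a, ha⟩ := by
      apply (φ i).injective
      rw [map_mul, map_mul]
      apply Subtype.ext
      rw [Subgroup.coe_mul, Subgroup.coe_mul, hφ, hφ]
      change f a * f (y' i) = f (y' i) * f a
      rw [hy']
      exact h2
    exact congrArg Subtype.val h3
  obtain ⟨z', hz', hzz⟩ : ∃ z' ∈ closure (Set.range y'), f z' = z := by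
    have h1 : (closure (Set.range y')).map f = closure (Set.range y) := by
      rw [MonoidHom.map_closure]
      congr 1
      ext x
      constructor
      · rintro ⟨_, ⟨i, rfl⟩, rfl⟩
        exact ⟨i, (hy' i).symm⟩
      · rintro ⟨i, rfl⟩
        exact ⟨y' i, ⟨i, rfl⟩, hy' i⟩
    rw [← h1] at gen
    exact gen
  refine ⟨z', hzz, ⟨⟨m, pos, fun i => Lft f (J i), y', fun i => ⟨(φ i).trans (e i)⟩, hmem, ?_, hle, ?_, hcomm, ?_, ?_,
    hz'⟩⟩⟩
  · intro i
    have h1 : orderOf (⟨y' i, hmem i⟩ : ↥(Lft f (J i))) = orderOf (y' i) := Subgroup.orderOf_mk _ _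
    rw [← h1, ← orderOf_injective (φ i).toMonoidHom (φ i).injective]
    have h2 : (φ i).toMonoidHom ⟨y' i, hmem i⟩ = ⟨y i, mem i⟩ := Subtype.ext (hy' i)
    rw [h2, Subgroup.orderOf_mk, ord]
  · intro i
    refine lft_subnormal ?_ (hle i) (sub i)
    intro x hx
    rw [mem_centralizer_singleton_iff] at hx ⊢
    rw [← hy', ← map_mul, hx, map_mul]
  · intro i j hij
    apply inj
    rw [← hy', ← hy', hij]
  · intro a b c hab hac hbc h
    apply three a b c hab hac hbc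
    rw [← hy', ← hy', ← hy', ← map_mul, h]

end Cfsg.Agent.OddHalf.NI3
end
end
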